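import Groth.Agent.SiteBase.ModFlat
import Mathlib.LinearAlgebra.TensorProduct.RightExactness
import Mathlib.LinearAlgebra.Finsupp.LinearCombination
import Mathlib.LinearAlgebra.TensorProduct.Finiteness

/-! # Locally trivial relations imply flatness -/

universe u

open CategoryTheory MonoidalCategory Limits Opposite

namespace Groth.Agent.FlatRel

open Groth.Agent.SiteBase

section Locally

variable {C : Type u} [SmallCategory C] (J : GrothendieckTopology C)

/-- `P` holds on the members of a covering sieve -/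
def Locally (U : C) (P : ∀ ⦃V : C⦄, (V ⟶ U) → Prop) : Prop := ∃ S ∈ J U, ∀ ⦃V : C⦄ (g : V ⟶ U), S g → P g

variable {J} {U : C} {P Q R : ∀ ⦃V : C⦄, (V ⟶ U) → Prop}

theorem Locally.of_all (h : ∀ ⦃V : C⦄ (g : V ⟶ U), P g) : Locally J U P :=
  ⟨⊤, J.top_mem U, fun _ g _ => h g⟩

theorem Locally.mono (hP : Locally J U P) (h : ∀ ⦃V : C⦄ (g : V ⟶ U), P g → Q g) : Locally J U Q :=
  let ⟨S, hS, hg⟩ := hP
  ⟨S, hS, fun _ g hgS => h g (hg g hgS)⟩

theorem Locally.and (hP : Locally J U P) (hQ : Locally J U Q) : Locally J U fun _ g => P g ∧ Q g :=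
  let ⟨S, hS, hg⟩ := hP
  let ⟨T, hT, hg'⟩ := hQ
  ⟨S ⊓ T, J.intersection_covering hS hT, fun _ g h => ⟨hg g h.1, hg' g h.2⟩⟩

theorem Locally.bind (hP : Locally J U P)
    (h : ∀ ⦃V : C⦄ (g : V ⟶ U), P g → Locally J V fun _ k => R (k ≫ g)) : Locally J U R := by
  obtain ⟨S, hS, hg⟩ := hP
  choose T hT hT' using fun V (g : V ⟶ U) (hgS : S g) => h g (hg g hgS)
  refine ⟨Sieve.bind S.arrows T, J.bind_covering hS fun Y f hf => hT Y f hf, ?_⟩
  rintro W _ ⟨Y, k, g, hgS, hk, rfl⟩
  exact hT' Y g hgS k hk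

theorem Locally.pullback (hP : Locally J U P) {W : C} (w : W ⟶ U) : Locally J W fun _ k => P (k ≫ w) :=
  let ⟨S, hS, hg⟩ := hP
  ⟨S.pullback w, J.pullback_stable w hS, fun _ k hk => hg _ hk⟩

/-- separatedness of an abelian sheaf -/
theorem eq_of_locally {F : Cᵒᵖ ⥤ AddCommGrpCat.{u}} (hF : Presheaf.IsSheaf J F) {U : C} {x y : F.obj (op U)}
    (h : Locally J U fun _ g => F.map g.op x = F.map g.op y) : x = y := by
  obtain ⟨S, hS, hg⟩ := h
  exact hF.isSeparated U S hS x y hg

end Locally

section Algebra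

/-- A vanishing sum of tensors is a combination of relations. -/
theorem exists_relations {R G M : Type*} [CommRing R] [AddCommGroup G] [Module R G] [AddCommGroup M] [Module R M]
    {ι : Type*} [Fintype ι] (g : ι → G) (m : ι → M) (h : ∑ i, g i ⊗ₜ[R] m i = 0) :
    ∃ S : Finset (G × (M →₀ R)), (∀ p ∈ S, Finsupp.linearCombination R id p.2 = 0) ∧
      ∀ (A : Type*) [AddCommGroup A] (Φ : G →+ (M →₀ R) →+ A),
        (∀ (r : R) (x : G) (v : M →₀ R), Φ (r • x) v = Φ x (r • v)) →
        ∑ i, Φ (g i) (Finsupp.single (m i) 1) = ∑ p ∈ S, Φ p.1 p.2 := by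
  classical
  let π := Finsupp.linearCombination R (id : M → M)
  have hπ : Function.Surjective π := fun x => ⟨Finsupp.single x 1, by simp [π]⟩
  have hK : Function.Exact (LinearMap.ker π).subtype π := LinearMap.exact_subtype_ker_map π
  have hex := lTensor_exact (M := ↥(LinearMap.ker π)) G hK hπ
  let x : TensorProduct R G (M →₀ R) := ∑ i, g i ⊗ₜ[R] Finsupp.single (m i) 1
  have hx : π.lTensor G x = 0 := by simp [x, π, map_sum, h]
  obtain ⟨z, hz⟩ := (hex x).1 hx
  obtain ⟨T, hT⟩ := TensorProduct.exists_finset z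
  refine ⟨T.image fun p => (p.1, (p.2 : M →₀ R)), fun p hp => ?_, fun A _ Φ hΦ => ?_⟩
  · obtain ⟨q, -, rfl⟩ := Finset.mem_image.1 hp
    exact q.2.2
  · have h₁ := congrArg (TensorProduct.liftAddHom Φ hΦ) hz
    rw [hT, map_sum, map_sum] at h₁
    simp only [x, map_sum, LinearMap.lTensor_tmul, TensorProduct.liftAddHom_tmul, Submodule.coe_subtype] at h₁
    rw [Finset.sum_image]
    · exact h₁.symm
    · intro a _ b _ e
      exact Prod.ext (Prod.ext_iff.1 e).1 (Subtype.ext (Prod.ext_iff.1 e).2)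

end Algebra

variable {C : Type u} [SmallCategory C] {J : GrothendieckTopology C} {O : Sheaf J CommRingCat.{u}}

/-- relations among sections are locally trivial -/
def RelTrivial (M : ModSite.Mod O) : Prop :=
  ∀ (U : C) (n : ℕ) (f : Fin n → O.obj.obj (op U)) (s : Fin n → ModSite.sect M U),
    ∑ j, f j • s j = 0 →
    ∃ S ∈ J U, ∀ ⦃V : C⦄ (g : V ⟶ U), S g →
      ∃ (l : ℕ) (t : Fin l → ModSite.sect M V) (a : Fin n → Fin l → O.obj.obj (op V)),
        (∀ j, (M.val.map g.op).hom (s j) = ∑ k, a j k • t k) ∧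
        (∀ k, ∑ j, a j k * (O.obj.map g.op).hom (f j) = 0)

/-- restriction of sections -/
noncomputable def rs (M : ModSite.Mod O) {U V : C} (g : V ⟶ U) : ModSite.sect M U →+ ModSite.sect M V :=
  (M.val.presheaf.map g.op).hom

lemma rs_smul (M : ModSite.Mod O) {U V : C} (g : V ⟶ U) (r : O.obj.obj (op U)) (x : ModSite.sect M U) :
    rs M g (r • x) = (O.obj.map g.op).hom r • rs M g x :=
  PresheafOfModules.map_smul M.val g.op r x

lemma rs_comp (M : ModSite.Mod O) {U V W : C} (g : V ⟶ U) (h : W ⟶ V) (x : ModSite.sect M U) :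
    rs M (h ≫ g) x = rs M h (rs M g x) :=
  ConcreteCategory.congr_hom (M.val.presheaf.map_comp g.op h.op) x

lemma rs_id (M : ModSite.Mod O) {U : C} (x : ModSite.sect M U) : rs M (𝟙 U) x = x :=
  ConcreteCategory.congr_hom (M.val.presheaf.map_id (op U)) x

lemma res_comp {U V W : C} (g : V ⟶ U) (h : W ⟶ V) (r : O.obj.obj (op U)) :
    (O.obj.map (h ≫ g).op).hom r = (O.obj.map h.op).hom ((O.obj.map g.op).hom r) :=
  ConcreteCategory.congr_hom (O.obj.map_comp g.op h.op) r

/-- `y` is a combination killing the relations `a` after restriction along `g` -/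
def TrivAt (M : ModSite.Mod O) {U V : C} (g : V ⟶ U) {κ ι : Type*} [Fintype ι]
    (y : ι → ModSite.sect M U) (a : κ → ι → O.obj.obj (op U)) : Prop :=
  ∃ (l : ℕ) (t : Fin l → ModSite.sect M V) (B : ι → Fin l → O.obj.obj (op V)),
    (∀ i, rs M g (y i) = ∑ k, B i k • t k) ∧ ∀ r k, ∑ i, (O.obj.map g.op).hom (a r i) * B i k = 0

theorem RelTrivial.single {M : ModSite.Mod O} (hM : RelTrivial M) {U : C} {ι : Type*} [Fintype ι]
    (y : ι → ModSite.sect M U) (a : ι → O.obj.obj (op U)) (h : ∑ i, a i • y i = 0) :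
    Locally J U fun _ g => TrivAt M g y fun (_ : Unit) => a := by
  let e := Fintype.equivFin ι
  obtain ⟨S, hS, hg⟩ := hM U (Fintype.card ι) (a ∘ e.symm) (y ∘ e.symm)
    (by rw [← h]; exact e.symm.sum_comp fun i => a i • y i)
  refine ⟨S, hS, fun V g hgS => ?_⟩
  obtain ⟨l, t, B, h₁, h₂⟩ := hg g hgS
  refine ⟨l, t, fun i => B (e i), fun i => ?_, fun _ k => ?_⟩
  · have := h₁ (e i)
    simp only [Function.comp, e.symm_apply_apply] at this
    exact this
  · refine Eq.trans ?_ (h₂ k)
    rw [← e.symm.sum_comp]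
    exact Finset.sum_congr rfl fun i _ => by simp [Function.comp, mul_comm]

theorem RelTrivial.simultaneous {M : ModSite.Mod O} (hM : RelTrivial M) {U : C} {ι : Type*} [Fintype ι]
    (y : ι → ModSite.sect M U) : ∀ {p : ℕ} (a : Fin p → ι → O.obj.obj (op U)),
    (∀ r, ∑ i, a r i • y i = 0) → Locally J U fun _ g => TrivAt M g y a := by
  classical
  intro p
  induction p with
  | zero =>
    refine fun a _ => Locally.of_all fun V g => ⟨Fintype.card ι, fun k => rs M g (y ((Fintype.equivFin ι).symm k)),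
      fun i k => if (Fintype.equivFin ι) i = k then 1 else 0, fun i => ?_, fun r => r.elim0⟩
    simp only [ite_smul, one_smul, zero_smul, Finset.sum_ite_eq, Finset.mem_univ, if_true,
      Equiv.symm_apply_apply]
  | succ p ih =>
    intro a h
    refine (ih (fun r => a r.castSucc) fun r => h _).bind fun V g ⟨l, t, B, h₁, h₂⟩ => ?_
    let c : Fin l → O.obj.obj (op V) := fun k => ∑ i, (O.obj.map g.op).hom (a (Fin.last p) i) * B i k
    have hc : ∑ k, c k • t k = 0 := by
      have := congrArg (rs M g) (h (Fin.last p))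
      rw [map_sum, map_zero] at this
      rw [← this]
      simp only [c, Finset.sum_smul, rs_smul, h₁, Finset.smul_sum, smul_smul]
      exact Finset.sum_comm
    refine (hM.single t c hc).mono fun W w ⟨l', t', B', h₁', h₂'⟩ => ?_
    refine ⟨l', t', fun i k' => ∑ k, (O.obj.map w.op).hom (B i k) * B' k k', fun i => ?_, fun r k' => ?_⟩
    · rw [rs_comp, h₁ i, map_sum]
      simp only [rs_smul, h₁', Finset.smul_sum, smul_smul, Finset.sum_smul]
      exact Finset.sum_comm
    · have key : ∑ i, (O.obj.map (w ≫ g).op).hom (a r i) * (∑ k, (O.obj.map w.op).hom (B i k) * B' k k') =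
          ∑ k, (O.obj.map w.op).hom (∑ i, (O.obj.map g.op).hom (a r i) * B i k) * B' k k' := by
        simp only [res_comp, map_sum, map_mul, Finset.mul_sum, Finset.sum_mul, mul_assoc]
        exact Finset.sum_comm
      rw [key]
      induction r using Fin.lastCases with
      | last => exact h₂' () k'
      | cast r => simp [h₂ r]

/-- `a ⊗ b` as a section of the tensor product -/
noncomputable def tmulSec (A M : ModSite.Mod O) {U : C} (a : ModSite.sect A U) (b : ModSite.sect M U) :
    ModSite.sect (((ModSite.tensorBi O).flip.obj M).obj A) U :=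
  ((shAdj O).unit.app ((incl O).obj A ⊗ (incl O).obj M)).app (op U) (a ⊗ₜ[O.obj.obj (op U)] b)

lemma tmulSec_map {A A' : ModSite.Mod O} (M : ModSite.Mod O) (φ : A ⟶ A') {U : C} (a : ModSite.sect A U)
    (b : ModSite.sect M U) :
    (((ModSite.tensorBi O).flip.obj M).map φ).val.app (op U) (tmulSec A M a b) =
      tmulSec A' M (φ.val.app (op U) a) b :=
  (ConcreteCategory.congr_hom (congrArg (fun q : (incl O).obj A ⊗ (incl O).obj M ⟶ _ => q.app (op U))
    ((shAdj O).unit.naturality ((incl O).map φ ▷ (incl O).obj M))) (a ⊗ₜ[O.obj.obj (op U)] b)).symm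

/-- the map from the presheaf tensor product -/
noncomputable def toTensor (A M : ModSite.Mod O) :
    ((incl O).obj A ⊗ (incl O).obj M).presheaf ⟶ (((ModSite.tensorBi O).flip.obj M).obj A).val.presheaf :=
  (PresheafOfModules.toPresheaf _).map ((shAdj O).unit.app ((incl O).obj A ⊗ (incl O).obj M))

lemma toTensor_tmul (A M : ModSite.Mod O) {U : C} (a : ModSite.sect A U) (b : ModSite.sect M U) :
    (toTensor A M).app (op U) (a ⊗ₜ[O.obj.obj (op U)] b) = tmulSec A M a b := rfl

/-- sections of the tensor product are locally sums of tensors -/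
theorem locally_sum_tmulSec (A M : ModSite.Mod O) {U : C}
    (x : ModSite.sect (((ModSite.tensorBi O).flip.obj M).obj A) U) :
    Locally J U fun V g => ∃ (l : ℕ) (a : Fin l → ModSite.sect A V) (b : Fin l → ModSite.sect M V),
      rs (((ModSite.tensorBi O).flip.obj M).obj A) g x = ∑ k, tmulSec A M (a k) (b k) := by
  haveI : Presheaf.IsLocallySurjective J (toTensor A M) := isLocallySurjective_unit _
  refine ⟨_, Presheaf.imageSieve_mem J (toTensor A M) x, fun V g ⟨z, hz⟩ => ?_⟩
  obtain ⟨T, hT⟩ := TensorProduct.exists_finset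
    (z : TensorProduct (O.obj.obj (op V)) (ModSite.sect A V) (ModSite.sect M V))
  refine ⟨T.card, fun k => (T.equivFin.symm k).1.1, fun k => (T.equivFin.symm k).1.2, ?_⟩
  refine hz.symm.trans ((congrArg ((toTensor A M).app (op V)) hT).trans ((map_sum _ _ _).trans ?_))
  rw [T.equivFin.symm.sum_comp (fun p : T => tmulSec A M p.1.1 p.1.2),
    Finset.sum_coe_sort T (fun p => tmulSec A M p.1 p.2)]
  rfl

lemma rs_tmulSec (A M : ModSite.Mod O) {U V : C} (g : V ⟶ U) (a : ModSite.sect A U) (b : ModSite.sect M U) :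
    rs (((ModSite.tensorBi O).flip.obj M).obj A) g (tmulSec A M a b) = tmulSec A M (rs A g a) (rs M g b) :=
  (ConcreteCategory.congr_hom ((toTensor A M).naturality g.op) (a ⊗ₜ[O.obj.obj (op U)] b)).symm

/-- vanishing sums of tensors vanish locally in the presheaf tensor product -/
theorem locally_sum_eq_zero (A M : ModSite.Mod O) {U : C} {ι : Type*} [Fintype ι]
    (a : ι → ModSite.sect A U) (b : ι → ModSite.sect M U) (h : ∑ i, tmulSec A M (a i) (b i) = 0) :
    Locally J U fun V g => ∑ i, rs A g (a i) ⊗ₜ[O.obj.obj (op V)] rs M g (b i) = 0 := by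
  haveI : Presheaf.IsLocallyInjective J (toTensor A M) := isLocallyInjective_unit _
  let z : ((incl O).obj A ⊗ (incl O).obj M).presheaf.obj (op U) :=
    (∑ i, a i ⊗ₜ[O.obj.obj (op U)] b i : TensorProduct (O.obj.obj (op U)) (ModSite.sect A U) (ModSite.sect M U))
  have hz : (toTensor A M).app (op U) z = (toTensor A M).app (op U) 0 :=
    (map_sum _ _ _).trans (h.trans (map_zero _).symm)
  refine ⟨_, Presheaf.equalizerSieve_mem J (toTensor A M) z 0 hz, fun V g hg => ?_⟩
  refine Eq.trans ?_ (hg.trans (map_zero _))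
  let τ : TensorProduct (O.obj.obj (op U)) (ModSite.sect A U) (ModSite.sect M U) →+
      ((incl O).obj A ⊗ (incl O).obj M).presheaf.obj (op V) :=
    (((incl O).obj A ⊗ (incl O).obj M).presheaf.map g.op).hom
  exact ((map_sum τ (fun i => a i ⊗ₜ[O.obj.obj (op U)] b i) Finset.univ).trans
    (Finset.sum_congr rfl fun i _ => rfl)).symm

lemma tmulSec_sum {A M : ModSite.Mod O} {U : C} {κ : Type*} (s : Finset κ) (a : κ → ModSite.sect A U)
    (b : ModSite.sect M U) : tmulSec A M (∑ k ∈ s, a k) b = ∑ k ∈ s, tmulSec A M (a k) b :=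
  (congrArg ((toTensor A M).app (op U)) (TensorProduct.sum_tmul (R := O.obj.obj (op U)) s a b)).trans (map_sum _ _ _)

lemma tmulSec_sum_smul {A M : ModSite.Mod O} {U : C} {κ : Type*} (s : Finset κ) (a : ModSite.sect A U)
    (r : κ → O.obj.obj (op U)) (b : κ → ModSite.sect M U) :
    tmulSec A M a (∑ k ∈ s, r k • b k) = ∑ k ∈ s, tmulSec A M (r k • a) (b k) := by
  have h : a ⊗ₜ[O.obj.obj (op U)] (∑ k ∈ s, r k • b k) = ∑ k ∈ s, (r k • a) ⊗ₜ[O.obj.obj (op U)] b k :=
    (TensorProduct.tmul_sum a s _).trans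
      (Finset.sum_congr rfl fun k _ => (TensorProduct.smul_tmul _ _ _).symm)
  exact (congrArg ((toTensor A M).app (op U)) h).trans (map_sum _ _ _)

theorem mono_of_injective {A B : ModSite.Mod O} (φ : A ⟶ B)
    (h : ∀ U (x : ModSite.sect A U), φ.val.app (op U) x = 0 → x = 0) : Mono φ := by
  refine ⟨fun {Z} u v e => SheafOfModules.hom_ext (PresheafOfModules.hom_ext fun X =>
    ModuleCat.hom_ext (LinearMap.ext fun z => sub_eq_zero.1 (h X.unop _ ?_)))⟩
  rw [map_sub, sub_eq_zero]
  exact ConcreteCategory.congr_hom (congrArg (fun q : Z ⟶ B => q.val.app X) e) z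

theorem injective_of_mono {A B : ModSite.Mod O} (φ : A ⟶ B) [Mono φ] (U : C) :
    Function.Injective (φ.val.app (op U)) := by
  haveI : Mono ((SheafOfModules.evaluation (ModSite.ringSh O) (op U)).map φ) := Functor.map_mono _ _
  exact (ModuleCat.mono_iff_injective _).1 this

/-- A module all whose relations are locally trivial is flat. -/
theorem isFlat_of_relTrivial {M : ModSite.Mod O} (hM : RelTrivial M) : ModSite.IsFlat M := by
  classical
  refine isFlat_iff.2 ⟨fun {A A'} φ hφ => mono_of_injective _ fun U x hx => ?_⟩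
  apply eq_of_locally (((ModSite.tensorBi O).flip.obj M).obj A).isSheaf
  refine ((locally_sum_tmulSec A M x).bind fun V g ⟨l, a, b, hab⟩ => ?_).mono
    fun W w (h : rs (((ModSite.tensorBi O).flip.obj M).obj A) w x = 0) => h.trans (map_zero _).symm
  have h0 : ∑ k, tmulSec A' M (φ.val.app (op V) (a k)) (b k) = 0 := by
    simp only [← tmulSec_map]
    rw [← map_sum, ← hab]
    exact (PresheafOfModules.naturality_apply _ g.op x).trans
      ((congrArg _ hx).trans (map_zero _))
  refine (locally_sum_eq_zero A' M _ _ h0).bind fun W w hw => ?_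
  obtain ⟨T, hT, hΦ⟩ := exists_relations _ _ hw
  let Y : Finset (ModSite.sect M W) := Finset.univ.image (fun k => rs M w (b k)) ∪ T.biUnion fun p => p.2.support
  have hY : ∀ k, rs M w (b k) ∈ Y := fun k =>
    Finset.mem_union_left _ (Finset.mem_image_of_mem _ (Finset.mem_univ k))
  have hrel : ∀ r : Fin T.card, ∑ y : Y, (T.equivFin.symm r).1.2 y.1 • y.1 = 0 := fun r => by
    rw [← hT _ (T.equivFin.symm r).2, Finset.sum_coe_sort Y (fun y => (T.equivFin.symm r).1.2 y • y)]
    exact ((Finsupp.linearCombination_apply (R := O.obj.obj (op W)) _).trans (Finsupp.sum_of_support_subset _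
      (fun y hy => Finset.mem_union_right _ (Finset.mem_biUnion.2 ⟨_, (T.equivFin.symm r).2, hy⟩)) _
      (fun _ _ => zero_smul _ _))).symm
  refine (hM.simultaneous (fun y : Y => y.1) _ hrel).mono fun Z z ⟨n, t, B, h₁, h₂⟩ => ?_
  show rs _ ((z ≫ w) ≫ g) x = 0
  rw [rs_comp _ g, hab, map_sum]
  simp only [rs_tmulSec, rs_comp M w, h₁ ⟨_, hY _⟩, tmulSec_sum_smul]
  rw [Finset.sum_comm]
  refine Finset.sum_eq_zero fun j _ => ?_
  rw [← tmulSec_sum]
  suffices hsum : ∑ k, B ⟨_, hY k⟩ j • rs A (z ≫ w) (a k) = 0 by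
    refine (congrArg (fun q => tmulSec A M q (t j)) hsum).trans ?_
    exact (congrArg ((toTensor A M).app (op Z)) (TensorProduct.zero_tmul (R := O.obj.obj (op Z)) _ (t j))).trans
      (map_zero _)
  apply injective_of_mono φ Z
  rw [map_sum, map_zero]
  let Φ : ModSite.sect A' W →+ (ModSite.sect M W →₀ O.obj.obj (op W)) →+ ModSite.sect A' Z :=
    AddMonoidHom.mk' (fun x => AddMonoidHom.mk'
      (fun v => (∑ y : Y, (O.obj.map z.op).hom (v y.1) * B y j) • rs A' z x)
      (fun v v' => by simp only [Finsupp.add_apply, map_add, add_mul, Finset.sum_add_distrib, add_smul]))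
      (fun x x' => AddMonoidHom.ext fun v => by simp [smul_add])
  have hb : ∀ (r : O.obj.obj (op W)) x v, Φ (r • x) v = Φ x (r • v) := fun r x v => by
    show (∑ y : Y, (O.obj.map z.op).hom (v y.1) * B y j) • rs A' z (r • x) =
      (∑ y : Y, (O.obj.map z.op).hom (r * v y.1) * B y j) • rs A' z x
    rw [rs_smul, smul_smul, Finset.sum_mul]
    refine congrArg (· • rs A' z x) (Finset.sum_congr rfl fun y _ => ?_)
    rw [map_mul]
    ring
  refine Eq.trans (Finset.sum_congr rfl fun k _ => ?_) ((hΦ _ Φ hb).trans ?_)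
  · have e : ∑ y : Y, (O.obj.map z.op).hom (Finsupp.single (rs M w (b k)) (1 : O.obj.obj (op W)) y.1) * B y j =
        B ⟨_, hY k⟩ j := by
      rw [Finset.sum_eq_single ⟨rs M w (b k), hY k⟩]
      · simp
      · intro y _ hy
        simp [Finsupp.single_eq_of_ne (fun e => hy (Subtype.ext e))]
      · simp
    show φ.val.app (op Z) (B ⟨_, hY k⟩ j • rs A (z ≫ w) (a k)) = (_ : O.obj.obj (op Z)) • rs A' z (rs A' w _)
    rw [e, map_smul, rs_comp]
    refine congrArg _ ?_
    exact (PresheafOfModules.naturality_apply φ.val z.op _).trans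
      (congrArg _ (PresheafOfModules.naturality_apply φ.val w.op _))
  · refine Finset.sum_eq_zero fun p hp => ?_
    have := h₂ (T.equivFin ⟨p, hp⟩) j
    simp only [Equiv.symm_apply_apply] at this
    show (∑ y : Y, (O.obj.map z.op).hom (p.2 y.1) * B y j) • rs A' z p.1 = 0
    rw [this, zero_smul]

end Groth.Agent.FlatRel
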