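import Groth.Agent.SiteBase.PullTensor.Basic
import Groth.Agent.FlatRel.Trivial
import Mathlib.CategoryTheory.Sites.Subsheaf

/-! # The functor of a morphism of sites is flat up to coverings -/

universe u

open CategoryTheory Limits Opposite

namespace Groth.Agent.FlatRel

open Groth.Agent.SiteBase.PullTensor

variable {C D : Type u} [SmallCategory C] [SmallCategory D] {J : GrothendieckTopology C}
  {K : GrothendieckTopology D} {O_C : Sheaf J CommRingCat.{u}} {O_D : Sheaf K CommRingCat.{u}}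
  (f : ModSite.RMor O_C O_D)

/-- the canonical element of the inverse image of a presheaf of sets -/
noncomputable def elt {P : Dᵒᵖ ⥤ Type u} {V : D} (x : P.obj (op V)) :
    ((pullSet f).obj P).obj.obj (op (f.fn.obj V)) :=
  ((pullSetAdj f).unit.app P).app (op V) x

lemma elt_map {P Q : Dᵒᵖ ⥤ Type u} (α : P ⟶ Q) {V : D} (x : P.obj (op V)) :
    ((pullSet f).map α).hom.app (op (f.fn.obj V)) (elt f x) = elt f (α.app (op V) x) :=
  (ConcreteCategory.congr_hom (congr_app ((pullSetAdj f).unit.naturality α) (op V)) x).symm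

lemma elt_res {P : Dᵒᵖ ⥤ Type u} {V V' : D} (h : V' ⟶ V) (x : P.obj (op V)) :
    elt f (P.map h.op x) = ((pullSet f).obj P).obj.map (f.fn.map h).op (elt f x) :=
  ConcreteCategory.congr_hom (((pullSetAdj f).unit.app P).naturality h.op) x

/-- sections of an inverse image come locally from elements -/
theorem locally_elt (P : Dᵒᵖ ⥤ Type u) {U : C} (s : ((pullSet f).obj P).obj.obj (op U)) :
    Locally J U fun W w => ∃ (V : D) (x : P.obj (op V)) (c : W ⟶ f.fn.obj V),
      ((pullSet f).obj P).obj.map w.op s = ((pullSet f).obj P).obj.map c.op (elt f x) := by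
  let X := (pullSet f).obj P
  let G : Subfunctor X.obj :=
    { obj := fun W => {s | ∃ (V : D) (x : P.obj (op V)) (c : W.unop ⟶ f.fn.obj V),
        s = X.obj.map c.op (elt f x)}
      map := fun {W W'} i s ⟨V, x, c, hs⟩ => ⟨V, x, i.unop ≫ c, by
        subst hs
        exact (ConcreteCategory.congr_hom (X.obj.map_comp c.op i) (elt f x)).symm⟩ }
  have hX : Presieve.IsSheaf J X.obj := (isSheaf_iff_isSheaf_of_type _ _).1 X.property
  let H : Sheaf J (Type u) :=
    ⟨(G.sheafify J).toFunctor, (isSheaf_iff_isSheaf_of_type _ _).2 (G.sheafify_isSheaf hX)⟩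
  let inc : H ⟶ X := ⟨(G.sheafify J).ι⟩
  let g : P ⟶ (f.fn.sheafPushforwardContinuous (Type u) K J ⋙ sheafToPresheaf K (Type u)).obj H :=
    { app := fun V => ↾fun x => ⟨elt f (V := V.unop) x, G.le_sheafify J (op (f.fn.obj V.unop))
        ⟨V.unop, x, 𝟙 _, (ConcreteCategory.congr_hom (X.obj.map_id _) _).symm⟩⟩
      naturality := fun V V' h => ConcreteCategory.hom_ext _ _ fun x => Subtype.ext (elt_res f h.unop x) }
  have hsec : ((pullSetAdj f).homEquiv P H).symm g ≫ inc = 𝟙 X := by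
    apply ((pullSetAdj f).homEquiv P X).injective
    rw [Adjunction.homEquiv_naturality_right, Equiv.apply_symm_apply, Adjunction.homEquiv_id]
    rfl
  have hs : s ∈ (G.sheafify J).obj (op U) := by
    have := ConcreteCategory.congr_hom (congrArg (fun q : X ⟶ X => q.hom.app (op U)) hsec) s
    have h2 : ((((pullSetAdj f).homEquiv P H).symm g).hom.app (op U) s).1 = s := this
    rw [← h2]
    exact ((((pullSetAdj f).homEquiv P H).symm g).hom.app (op U) s).2
  exact ⟨_, hs, fun W w hw => hw⟩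

/-- equal canonical elements of representables come from locally equal maps -/
theorem locally_eq_of_elt {V : D} {U : C} (a b : U ⟶ f.fn.obj V)
    (h : ((pullSet f).obj (yoneda.obj V)).obj.map a.op (elt f (P := yoneda.obj V) (𝟙 V)) =
      ((pullSet f).obj (yoneda.obj V)).obj.map b.op (elt f (P := yoneda.obj V) (𝟙 V))) :
    Locally J U fun _ w => w ≫ a = w ≫ b := by
  let T := (presheafToSheaf J (Type u)).obj (yoneda.obj (f.fn.obj V))
  let η := (sheafificationAdjunction J (Type u)).unit.app (yoneda.obj (f.fn.obj V))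
  let θ := ((pullSetAdj f).homEquiv _ T).symm (yonUnit f V)
  have hθ : θ.hom.app (op (f.fn.obj V)) (elt f (P := yoneda.obj V) (𝟙 V)) = η.app _ (𝟙 (f.fn.obj V)) := by
    have e := ((pullSetAdj f).homEquiv (yoneda.obj V) T).apply_symm_apply (yonUnit f V)
    rw [Adjunction.homEquiv_unit] at e
    refine (ConcreteCategory.congr_hom (congr_app e (op V)) (𝟙 V)).trans ?_
    exact yonedaEquiv.apply_symm_apply _
  have key : ∀ c : U ⟶ f.fn.obj V, θ.hom.app (op U)
      (((pullSet f).obj (yoneda.obj V)).obj.map c.op (elt f (P := yoneda.obj V) (𝟙 V))) = η.app (op U) c := by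
    intro c
    refine (ConcreteCategory.congr_hom (θ.hom.naturality c.op) _).trans ?_
    refine (congrArg (T.obj.map c.op) hθ).trans ?_
    refine (ConcreteCategory.congr_hom (η.naturality c.op) (𝟙 (f.fn.obj V))).symm.trans ?_
    exact congrArg (fun q : U ⟶ f.fn.obj V => η.app (op U) q) (Category.comp_id c)
  haveI : Presheaf.IsLocallyInjective J η := (J.W_toSheafify (A := Type u) _).isLocallyInjective
  have hab : η.app (op U) a = η.app (op U) b := (key a).symm.trans ((congrArg _ h).trans (key b))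
  let a' : (yoneda.obj (f.fn.obj V)).obj (op U) := a
  let b' : (yoneda.obj (f.fn.obj V)).obj (op U) := b
  exact ⟨Presheaf.equalizerSieve (F := yoneda.obj (f.fn.obj V)) a' b',
    Presheaf.equalizerSieve_mem J η a' b' hab, fun W w hw => hw⟩

/-- evaluated inverse image -/
noncomputable abbrev pullAt (U : C) : (Dᵒᵖ ⥤ Type u) ⥤ Type u :=
  pullSet f ⋙ sheafToPresheaf J (Type u) ⋙ (evaluation _ _).obj (op U)

instance pullAt_preservesFiniteLimits (U : C) : PreservesFiniteLimits (pullAt f U) :=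
  haveI : PreservesFiniteLimits (pullSet f) := comp_preservesFiniteLimits _ _
  haveI : PreservesLimitsOfSize.{0, 0} (sheafToPresheaf J (Type u)) :=
    (sheafificationAdjunction J (Type u)).rightAdjoint_preservesLimits
  haveI : PreservesFiniteLimits (sheafToPresheaf J (Type u)) :=
    PreservesLimitsOfSize.preservesFiniteLimits.{0, 0} _
  comp_preservesFiniteLimits _ _

/-- locally some object maps -/
theorem locally_nonempty (U : C) : Locally J U fun W _ => ∃ V : D, Nonempty (W ⟶ f.fn.obj V) := by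
  let P : Dᵒᵖ ⥤ Type u := (Functor.const _).obj PUnit.{u + 1}
  have hP : IsTerminal P := IsTerminal.ofUniqueHom (fun Q => { app := fun _ => ↾fun _ => PUnit.unit })
    (fun Q m => by ext V x; rfl)
  let s : ((pullSet f).obj P).obj.obj (op U) :=
    (hP.isTerminalObj (pullAt f U) P).from PUnit.{u + 1} PUnit.unit
  exact (locally_elt f P s).mono fun W w ⟨V, _, c, _⟩ => ⟨V, ⟨c⟩⟩

/-- locally two objects are dominated -/
theorem locally_pair {U : C} {V₁ V₂ : D} (a₁ : U ⟶ f.fn.obj V₁) (a₂ : U ⟶ f.fn.obj V₂) :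
    Locally J U fun W w => ∃ (V : D) (c : W ⟶ f.fn.obj V) (h₁ : V ⟶ V₁) (h₂ : V ⟶ V₂),
      c ≫ f.fn.map h₁ = w ≫ a₁ ∧ c ≫ f.fn.map h₂ = w ≫ a₂ := by
  let hl := mapIsLimitOfPreservesOfIsLimit (pullAt f U) _ _ (prodPreIsLimit V₁ V₂)
  let s₁ : PUnit.{u + 1} ⟶ (pullAt f U).obj (yoneda.obj V₁) :=
    ↾fun _ => ((pullSet f).obj (yoneda.obj V₁)).obj.map a₁.op (elt f (P := yoneda.obj V₁) (𝟙 V₁))
  let s₂ : PUnit.{u + 1} ⟶ (pullAt f U).obj (yoneda.obj V₂) :=
    ↾fun _ => ((pullSet f).obj (yoneda.obj V₂)).obj.map a₂.op (elt f (P := yoneda.obj V₂) (𝟙 V₂))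
  obtain ⟨l, hl₁, hl₂⟩ := BinaryFan.IsLimit.lift' hl s₁ s₂
  refine (locally_elt f (prodPre V₁ V₂) (l PUnit.unit)).bind fun W w ⟨V, x, c, hc⟩ => ?_
  have key : ∀ {V₀ : D} (a₀ : U ⟶ f.fn.obj V₀) (p : prodPre V₁ V₂ ⟶ yoneda.obj V₀) (h₀ : V ⟶ V₀),
      p.app (op V) x = h₀ →
      ((pullSet f).map p).hom.app (op U) (l PUnit.unit) =
        ((pullSet f).obj (yoneda.obj V₀)).obj.map a₀.op (elt f (P := yoneda.obj V₀) (𝟙 V₀)) →
      Locally J W fun _ k => k ≫ (w ≫ a₀) = k ≫ (c ≫ f.fn.map h₀) := by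
    intro V₀ a₀ p h₀ hp hs
    refine locally_eq_of_elt f _ _ ?_
    have h2 : ((pullSet f).map p).hom.app (op W) (((pullSet f).obj (prodPre V₁ V₂)).obj.map w.op (l PUnit.unit)) =
        ((pullSet f).obj (yoneda.obj V₀)).obj.map (w ≫ a₀).op (elt f (P := yoneda.obj V₀) (𝟙 V₀)) :=
      (ConcreteCategory.congr_hom (((pullSet f).map p).hom.naturality w.op) _).trans
        ((congrArg _ hs).trans (ConcreteCategory.congr_hom
          (((pullSet f).obj (yoneda.obj V₀)).obj.map_comp a₀.op w.op) _).symm)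
    refine h2.symm.trans ?_
    rw [hc]
    refine (ConcreteCategory.congr_hom (((pullSet f).map p).hom.naturality c.op) _).trans ?_
    refine (congrArg _ ((elt_map f p x).trans ((congrArg (elt f) hp).trans ?_))).trans
      (ConcreteCategory.congr_hom (((pullSet f).obj (yoneda.obj V₀)).obj.map_comp (f.fn.map h₀).op c.op) _).symm
    refine Eq.trans ?_ (elt_res f (P := yoneda.obj V₀) h₀ (𝟙 V₀))
    exact congrArg (elt f) (Category.comp_id h₀).symm
  refine ((key a₁ (prodFst V₁ V₂) x.1 rfl (ConcreteCategory.congr_hom hl₁ PUnit.unit)).and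
    (key a₂ (prodSnd V₁ V₂) x.2 rfl (ConcreteCategory.congr_hom hl₂ PUnit.unit))).mono fun Z k ⟨e₁, e₂⟩ => ?_
  refine ⟨V, k ≫ c, x.1, x.2, ?_, ?_⟩
  · rw [Category.assoc, ← e₁, Category.assoc]
  · rw [Category.assoc, ← e₂, Category.assoc]

/-- the subpresheaf equalizing two maps -/
def eqSub {V V₀ : D} (h h' : V ⟶ V₀) : Subfunctor (yoneda.obj V) where
  obj W := {k : W.unop ⟶ V | k ≫ h = k ≫ h'}
  map i k (hk : k ≫ h = k ≫ h') := show (i.unop ≫ k) ≫ h = (i.unop ≫ k) ≫ h' by
    rw [Category.assoc, Category.assoc, hk]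

/-- locally two maps are equalized -/
theorem locally_equalize {U : C} {V V₀ : D} (h h' : V ⟶ V₀) (a : U ⟶ f.fn.obj V)
    (e : a ≫ f.fn.map h = a ≫ f.fn.map h') :
    Locally J U fun W w => ∃ (V' : D) (c : W ⟶ f.fn.obj V') (k : V' ⟶ V),
      k ≫ h = k ≫ h' ∧ c ≫ f.fn.map k = w ≫ a := by
  have w₀ : (eqSub h h').ι ≫ yoneda.map h = (eqSub h h').ι ≫ yoneda.map h' := by
    ext W k
    exact k.2
  have hlim : IsLimit (Fork.ofι (eqSub h h').ι w₀) := Fork.IsLimit.mk _
    (fun s => Subfunctor.lift s.ι (fun W => by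
      rintro _ ⟨y, rfl⟩
      exact ConcreteCategory.congr_hom (congr_app s.condition W) y))
    (fun s => rfl)
    (fun s m hm => NatTrans.ext (funext fun W => ConcreteCategory.hom_ext _ _ fun y =>
      Subtype.ext (ConcreteCategory.congr_hom (congr_app hm W) y)))
  let hl := isLimitForkMapOfIsLimit (pullAt f U) w₀ hlim
  let x₀ : (pullAt f U).obj (yoneda.obj V) :=
    ((pullSet f).obj (yoneda.obj V)).obj.map a.op (elt f (P := yoneda.obj V) (𝟙 V))
  have hx : ∀ g : V ⟶ V₀, (pullAt f U).map (yoneda.map g) x₀ =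
      ((pullSet f).obj (yoneda.obj V₀)).obj.map (a ≫ f.fn.map g).op (elt f (P := yoneda.obj V₀) (𝟙 V₀)) := by
    intro g
    refine (ConcreteCategory.congr_hom (((pullSet f).map (yoneda.map g)).hom.naturality a.op) _).trans ?_
    refine (congrArg _ ((elt_map f (yoneda.map g) (𝟙 V : (yoneda.obj V).obj (op V))).trans ?_)).trans
      (ConcreteCategory.congr_hom (((pullSet f).obj (yoneda.obj V₀)).obj.map_comp (f.fn.map g).op a.op) _).symm
    refine Eq.trans ?_ (elt_res f (P := yoneda.obj V₀) g (𝟙 V₀))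
    exact congrArg (elt f) ((Category.id_comp g).trans (Category.comp_id g).symm)
  obtain ⟨l, hll⟩ := Fork.IsLimit.lift' hl (↾fun _ : PUnit.{u + 1} => x₀) (ConcreteCategory.hom_ext _ _ fun _ =>
    show (pullAt f U).map (yoneda.map h) x₀ = (pullAt f U).map (yoneda.map h') x₀ by rw [hx, hx, e])
  refine (locally_elt f (eqSub h h').toFunctor (l PUnit.unit)).bind fun W w ⟨V', x, c, hc⟩ => ?_
  have hs : ((pullSet f).map (eqSub h h').ι).hom.app (op U) (l PUnit.unit) = x₀ :=
    ConcreteCategory.congr_hom hll PUnit.unit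
  refine (locally_eq_of_elt f (c ≫ f.fn.map x.1) (w ≫ a) ?_).mono fun Z k hk => ⟨V', k ≫ c, x.1, x.2, ?_⟩
  · have h2 : ((pullSet f).map (eqSub h h').ι).hom.app (op W)
        (((pullSet f).obj (eqSub h h').toFunctor).obj.map w.op (l PUnit.unit)) =
        ((pullSet f).obj (yoneda.obj V)).obj.map (w ≫ a).op (elt f (P := yoneda.obj V) (𝟙 V)) :=
      (ConcreteCategory.congr_hom (((pullSet f).map (eqSub h h').ι).hom.naturality w.op) _).trans
        ((congrArg _ hs).trans (ConcreteCategory.congr_hom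
          (((pullSet f).obj (yoneda.obj V)).obj.map_comp a.op w.op) _).symm)
    refine Eq.trans ?_ h2
    rw [hc]
    refine Eq.trans ?_ (ConcreteCategory.congr_hom (((pullSet f).map (eqSub h h').ι).hom.naturality c.op) _).symm
    refine (ConcreteCategory.congr_hom (((pullSet f).obj (yoneda.obj V)).obj.map_comp (f.fn.map x.1).op c.op) _).trans ?_
    refine congrArg _ (Eq.trans ?_ (elt_map f (eqSub h h').ι x).symm)
    refine (elt_res f (P := yoneda.obj V) x.1 (𝟙 V)).symm.trans ?_
    exact congrArg (elt f) (Category.comp_id x.1)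
  · rw [Category.assoc, hk, Category.assoc]

/-- coverings pull back -/
theorem locally_cover {U : C} {V : D} (a : U ⟶ f.fn.obj V) {S : Sieve V} (hS : S ∈ K V) :
    Locally J U fun W w => ∃ (V' : D) (g : V' ⟶ V) (c : W ⟶ f.fn.obj V'), S g ∧ c ≫ f.fn.map g = w ≫ a := by
  haveI : IsIso ((presheafToSheaf K (Type u)).map S.functorInclusion) :=
    (K.W_iff _).1 ((K.W_iff_isLocallyBijective _).2
      ⟨Presheaf.isLocallyInjective_of_injective K _ fun W a b h => Subtype.ext h, ⟨fun {W} g => by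
        refine K.superset_covering (fun Z k hk => ?_) (K.pullback_stable g hS)
        exact ⟨⟨k ≫ g, hk⟩, rfl⟩⟩⟩)
  haveI : IsIso ((pullSet f).map S.functorInclusion) :=
    inferInstanceAs (IsIso ((f.fn.sheafPullback (Type u) K J).map ((presheafToSheaf K (Type u)).map S.functorInclusion)))
  let x₀ : (pullAt f U).obj (yoneda.obj V) :=
    ((pullSet f).obj (yoneda.obj V)).obj.map a.op (elt f (P := yoneda.obj V) (𝟙 V))
  let s : ((pullSet f).obj S.functor).obj.obj (op U) := (inv ((pullSet f).map S.functorInclusion)).hom.app (op U) x₀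
  have hs : ((pullSet f).map S.functorInclusion).hom.app (op U) s = x₀ :=
    ConcreteCategory.congr_hom (congrArg (fun q : _ ⟶ (pullSet f).obj (yoneda.obj V) => q.hom.app (op U))
      (IsIso.inv_hom_id ((pullSet f).map S.functorInclusion))) x₀
  refine (locally_elt f S.functor s).bind fun W w ⟨V', x, c, hc⟩ => ?_
  refine (locally_eq_of_elt f (c ≫ f.fn.map x.1) (w ≫ a) ?_).mono fun Z k hk => ⟨V', x.1, k ≫ c, x.2, ?_⟩
  · have h2 : ((pullSet f).map S.functorInclusion).hom.app (op W)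
        (((pullSet f).obj S.functor).obj.map w.op s) =
        ((pullSet f).obj (yoneda.obj V)).obj.map (w ≫ a).op (elt f (P := yoneda.obj V) (𝟙 V)) :=
      (ConcreteCategory.congr_hom (((pullSet f).map S.functorInclusion).hom.naturality w.op) _).trans
        ((congrArg _ hs).trans (ConcreteCategory.congr_hom
          (((pullSet f).obj (yoneda.obj V)).obj.map_comp a.op w.op) _).symm)
    refine Eq.trans ?_ h2
    rw [hc]
    refine Eq.trans ?_ (ConcreteCategory.congr_hom (((pullSet f).map S.functorInclusion).hom.naturality c.op) _).symm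
    refine (ConcreteCategory.congr_hom (((pullSet f).obj (yoneda.obj V)).obj.map_comp (f.fn.map x.1).op c.op) _).trans ?_
    refine congrArg _ (Eq.trans ?_ (elt_map f S.functorInclusion x).symm)
    refine (elt_res f (P := yoneda.obj V) x.1 (𝟙 V)).symm.trans ?_
    exact congrArg (elt f) (Category.comp_id x.1)
  · rw [Category.assoc, hk, Category.assoc]

/-- finitely many objects are locally dominated -/
theorem locally_family : ∀ {n : ℕ} {U : C} (V : Fin n → D) (a : ∀ i, U ⟶ f.fn.obj (V i)),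
    Locally J U fun W w => ∃ (V₀ : D) (c : W ⟶ f.fn.obj V₀) (h : ∀ i, V₀ ⟶ V i),
      ∀ i, c ≫ f.fn.map (h i) = w ≫ a i := by
  intro n
  induction n with
  | zero => exact fun {U} V a => (locally_nonempty f U).mono fun W w ⟨V₀, ⟨c⟩⟩ => ⟨V₀, c, fun i => i.elim0, fun i => i.elim0⟩
  | succ n ih =>
    intro U V a
    refine (ih (fun i => V i.castSucc) fun i => a i.castSucc).bind fun W w ⟨V₀, c, h, hc⟩ => ?_
    refine (locally_pair f c (w ≫ a (Fin.last n))).mono fun Z k ⟨V₁, d, g₁, g₂, e₁, e₂⟩ => ?_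
    refine ⟨V₁, d, Fin.lastCases g₂ fun i => g₁ ≫ h i, fun i => ?_⟩
    induction i using Fin.lastCases with
    | last => simp [e₂]
    | cast i => simp [reassoc_of% e₁, hc i]

/-- finitely many pairs of maps are locally equalized -/
theorem locally_equalize_family {U : C} {V : D} (a : U ⟶ f.fn.obj V) :
    ∀ {n : ℕ} (V₀ : Fin n → D) (h h' : ∀ i, V ⟶ V₀ i), (∀ i, a ≫ f.fn.map (h i) = a ≫ f.fn.map (h' i)) →
    Locally J U fun W w => ∃ (V' : D) (c : W ⟶ f.fn.obj V') (k : V' ⟶ V),
      (∀ i, k ≫ h i = k ≫ h' i) ∧ c ≫ f.fn.map k = w ≫ a := by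
  intro n
  induction n with
  | zero => exact fun V₀ h h' _ => Locally.of_all fun W w => ⟨V, w ≫ a, 𝟙 V, fun i => i.elim0, by simp⟩
  | succ n ih =>
    intro V₀ h h' e
    refine (ih (fun i => V₀ i.castSucc) _ _ fun i => e i.castSucc).bind fun W w ⟨V', c, k, hk, hc⟩ => ?_
    refine (locally_equalize f (k ≫ h (Fin.last n)) (k ≫ h' (Fin.last n)) c ?_).mono
      fun Z z ⟨V'', d, g, hg, hd⟩ => ⟨V'', d, g ≫ k, fun i => ?_, ?_⟩
    · rw [f.fn.map_comp, f.fn.map_comp, reassoc_of% hc, reassoc_of% hc, e (Fin.last n)]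
    · induction i using Fin.lastCases with
      | last => simpa using hg
      | cast i => simp [hk i]
    · rw [f.fn.map_comp, reassoc_of% hd, hc, Category.assoc]

/-- finite diagrams locally have a cone -/
theorem locally_cone {U : C} {T E : Type*} [Fintype T] [Fintype E] (V : T → D) (a : ∀ t, U ⟶ f.fn.obj (V t))
    (src tgt : E → T) (b : ∀ e, V (src e) ⟶ V (tgt e))
    (hb : ∀ e, a (src e) ≫ f.fn.map (b e) = a (tgt e)) :
    Locally J U fun W w => ∃ (V₀ : D) (c : W ⟶ f.fn.obj V₀) (h : ∀ t, V₀ ⟶ V t),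
      (∀ t, c ≫ f.fn.map (h t) = w ≫ a t) ∧ ∀ e, h (src e) ≫ b e = h (tgt e) := by
  let i := (Fintype.equivFin T).symm
  let j := (Fintype.equivFin E).symm
  refine (locally_family f (fun k => V (i k)) fun k => a (i k)).bind fun W w ⟨V₁, c, h, hc⟩ => ?_
  obtain ⟨h₁, hh₁⟩ : ∃ h₁ : ∀ t, V₁ ⟶ V t, ∀ t, c ≫ f.fn.map (h₁ t) = w ≫ a t :=
    ⟨fun t => h (i.symm t) ≫ eqToHom (congrArg V (i.apply_symm_apply t)), fun t => by
      have aux : ∀ (s : T) (e : s = t), a s ≫ f.fn.map (eqToHom (congrArg V e)) = a t := by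
        rintro s rfl; simp
      rw [f.fn.map_comp, reassoc_of% hc, aux _ (i.apply_symm_apply t)]⟩
  refine (locally_equalize_family f c (fun k => V (tgt (j k))) (fun k => h₁ (src (j k)) ≫ b (j k))
    (fun k => h₁ (tgt (j k))) fun k => ?_).mono fun Z z ⟨V', d, g, hg, hd⟩ =>
      ⟨V', d, fun t => g ≫ h₁ t, fun t => ?_, fun e => ?_⟩
  · rw [f.fn.map_comp, reassoc_of% hh₁, hh₁, hb]
  · rw [f.fn.map_comp, reassoc_of% hd, hh₁, Category.assoc]
  · obtain ⟨k, rfl⟩ := j.surjective e
    simpa using hg k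

end Groth.Agent.FlatRel
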