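import Groth.Agent.FlatRel.Trivial
import Mathlib.Algebra.Homology.ShortComplex.ModuleCat

/-! # Flatness implies that relations are locally trivial -/

universe u

open CategoryTheory MonoidalCategory Limits Opposite

namespace Groth.Agent.FlatRel

open Groth.Agent.SiteBase

variable {C : Type u} [SmallCategory C] {J : GrothendieckTopology C} {O : Sheaf J CommRingCat.{u}}

/-- evaluation of morphisms at a section, as an additive map -/
noncomputable def evalAt {A B : ModSite.Mod O} {U : C} (x : ModSite.sect A U) :
    (A ⟶ B) →+ ModSite.sect B U :=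
  AddMonoidHom.mk' (fun φ => φ.val.app (op U) x) (fun _ _ => rfl)

/-- multiplication by a compatible family of functions -/
noncomputable def mulBy (f : (ModSite.unit O).sections) : ModSite.unit O ⟶ ModSite.unit O :=
  (ModSite.unit O).unitHomEquiv.symm f

/-- the value of a compatible family of functions -/
abbrev fval (f : (ModSite.unit O).sections) (U : C) : O.obj.obj (op U) := f.val (op U)

lemma mulBy_app (f : (ModSite.unit O).sections) (U : C) (r : O.obj.obj (op U)) :
    (mulBy f).val.app (op U) r = r * fval f U := by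
  have h1 : (mulBy f).val.app (op U) (1 : O.obj.obj (op U)) = f.val (op U) :=
    congrArg (fun t : (ModSite.unit O).sections => t.val (op U))
      ((ModSite.unit O).unitHomEquiv.apply_symm_apply f)
  have h := ((mulBy f).val.app (op U)).hom.map_smul r (1 : O.obj.obj (op U))
  calc (mulBy f).val.app (op U) r
      = (mulBy f).val.app (op U) (r • (1 : O.obj.obj (op U))) :=
        congrArg ((mulBy f).val.app (op U)) (mul_one r).symm
    _ = _ := h.trans (congrArg (fun q : O.obj.obj (op U) => r • q) h1)


/-- the value of a compatible family of sections -/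
abbrev sval {M : ModSite.Mod O} (s : M.sections) (U : C) : ModSite.sect M U := s.val (op U)

/-- `O ⊗ M ⟶ M` -/
noncomputable def unitAct (M : ModSite.Mod O) :
    ((ModSite.tensorBi O).flip.obj M).obj (ModSite.unit O) ⟶ M :=
  ((shAdj O).homEquiv _ _).symm (λ_ ((incl O).obj M)).hom

lemma unitAct_tmulSec (M : ModSite.Mod O) {U : C} (r : O.obj.obj (op U)) (m : ModSite.sect M U) :
    (unitAct M).val.app (op U) (tmulSec (ModSite.unit O) M r m) = r • m := by
  have h := ((shAdj O).homEquiv ((incl O).obj (ModSite.unit O) ⊗ (incl O).obj M) M).apply_symm_apply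
    (λ_ ((incl O).obj M)).hom
  rw [Adjunction.homEquiv_unit] at h
  exact ConcreteCategory.congr_hom (congrArg (fun q : _ ⟶ (incl O).obj M => q.app (op U)) h)
    (r ⊗ₜ[O.obj.obj (op U)] m)

/-- relations among global sections of a flat module are locally trivial -/
theorem trivAt_of_isFlat_sections {M : ModSite.Mod O} (hM : ModSite.IsFlat M) {n : ℕ}
    (f : Fin n → (ModSite.unit O).sections) (s : Fin n → M.sections)
    (h : ∀ U : C, ∑ j, fval (f j) U • sval (s j) U = 0) (U : C) :
    Locally J U fun V g => TrivAt M g (fun j => ((s j).val (op U) : ModSite.sect M U))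
      (fun (_ : Unit) j => ((f j).val (op U) : O.obj.obj (op U))) := by
  classical
  haveI : HasFiniteBiproducts (ModSite.Mod O) := Abelian.hasFiniteBiproducts
  let A : ModSite.Mod O := ⨁ fun _ : Fin n => ModSite.unit O
  let ι : ∀ _ : Fin n, ModSite.unit O ⟶ A := fun j => biproduct.ι (fun _ : Fin n => ModSite.unit O) j
  let π : ∀ _ : Fin n, A ⟶ ModSite.unit O := fun j => biproduct.π (fun _ : Fin n => ModSite.unit O) j
  let φ : A ⟶ ModSite.unit O := biproduct.desc fun j => mulBy (f j)
  let T := (ModSite.tensorBi O).flip.obj M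
  have := hM.1
  let one : O.obj.obj (op U) := 1
  let x : ModSite.sect (T.obj A) U :=
    ∑ j, tmulSec A M ((ι j).val.app (op U) one) ((s j).val (op U))
  have hφι : ∀ j, ι j ≫ φ = mulBy (f j) := fun j => biproduct.ι_desc _ _
  have hφ : ∀ j, φ.val.app (op U) ((ι j).val.app (op U) one) = ((f j).val (op U) : O.obj.obj (op U)) :=
    fun j => ((ConcreteCategory.congr_hom (congrArg (fun q : _ ⟶ ModSite.unit O => q.val.app (op U)) (hφι j)) one)).trans
      ((mulBy_app _ _ _).trans (one_mul (fval (f j) U)))
  have hx : (T.map φ).val.app (op U) x = 0 := by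
    rw [map_sum]
    simp only [T, tmulSec_map, hφ]
    have h' : tmulSec (ModSite.unit O) M one
        (∑ j, fval (f j) U • sval (s j) U) = 0 :=
      (congrArg (tmulSec (ModSite.unit O) M one) (h U)).trans ((congrArg ((toTensor _ M).app (op U))
        (TensorProduct.tmul_zero (R := O.obj.obj (op U)) _ one)).trans (map_zero _))
    rw [tmulSec_sum_smul] at h'
    refine Eq.trans (Finset.sum_congr rfl fun j _ => ?_) h'
    exact congrArg (fun q : O.obj.obj (op U) => tmulSec (ModSite.unit O) M q _) (mul_one (fval (f j) U)).symm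
  let R := T ⋙ SheafOfModules.evaluation (ModSite.ringSh O) (op U)
  have : PreservesFiniteLimits R := comp_preservesFiniteLimits _ _
  have : R.PreservesZeroMorphisms :=
    Functor.preservesZeroMorphisms_of_preserves_terminal_object
  have hex : ((ShortComplex.mk (kernel.ι φ) φ (kernel.condition φ)).map R).Exact :=
    ShortComplex.exact_of_f_is_kernel _ (KernelFork.mapIsLimit _ (kernelIsKernel φ) R)
  have hex' : ∀ z : ModSite.sect (T.obj A) U, (T.map φ).val.app (op U) z = 0 →
      ∃ y : ModSite.sect (T.obj (kernel φ)) U, (T.map (kernel.ι φ)).val.app (op U) y = z :=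
    fun z hz => (ShortComplex.moduleCat_exact_iff _).1 hex z hz
  obtain ⟨y, hy⟩ := hex' x hx
  refine (locally_sum_tmulSec _ M y).mono fun V g ⟨l, k, t, hkt⟩ => ?_
  have hxg : rs (T.obj A) g x = ∑ i, tmulSec A M ((kernel.ι φ).val.app (op V) (k i)) (t i) := by
    rw [← hy]
    refine (PresheafOfModules.naturality_apply (T.map (kernel.ι φ)).val g.op y).symm.trans ?_
    refine (congrArg ((T.map (kernel.ι φ)).val.app (op V)) hkt).trans ?_
    rw [map_sum]
    exact Finset.sum_congr rfl fun i _ => tmulSec_map M (kernel.ι φ) _ _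
  let a : Fin n → Fin l → O.obj.obj (op V) := fun j i => (π j).val.app (op V) ((kernel.ι φ).val.app (op V) (k i))
  refine ⟨l, t, a, fun j => ?_, fun _ i => ?_⟩
  · have h1 := congrArg (fun q => (unitAct M).val.app (op V) ((T.map (π j)).val.app (op V) q)) hxg
    simp only [x, map_sum, T, tmulSec_map, unitAct_tmulSec, rs_tmulSec] at h1
    refine Eq.trans ?_ h1
    rw [Finset.sum_eq_single j]
    · have e : (π j).val.app (op V) (rs A g ((ι j).val.app (op U) one)) = (1 : O.obj.obj (op V)) := by
        refine ((congrArg ((π j).val.app (op V)) (PresheafOfModules.naturality_apply (ι j).val g.op one).symm)).trans ?_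
        refine (ConcreteCategory.congr_hom (congrArg (fun q : _ ⟶ ModSite.unit O => q.val.app (op V))
          (biproduct.ι_π_self (fun _ : Fin n => ModSite.unit O) j)) _).trans ?_
        exact map_one (O.obj.map g.op).hom
      exact ((congrArg (fun r : O.obj.obj (op V) => r • rs M g ((s j).val (op U))) e).trans (one_smul _ _)).symm
    · intro i _ hi
      have e : (π j).val.app (op V) (rs A g ((ι i).val.app (op U) one)) = (0 : O.obj.obj (op V)) := by
        refine ((congrArg ((π j).val.app (op V)) (PresheafOfModules.naturality_apply (ι i).val g.op one).symm)).trans ?_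
        exact ConcreteCategory.congr_hom (congrArg (fun q : _ ⟶ ModSite.unit O => q.val.app (op V))
          (biproduct.ι_π_ne (fun _ : Fin n => ModSite.unit O) hi)) _
      exact (congrArg (fun r : O.obj.obj (op V) => r • rs M g ((s i).val (op U))) e).trans (zero_smul _ _)
    · exact fun hj => (hj (Finset.mem_univ j)).elim
  · have h2 : φ.val.app (op V) ((kernel.ι φ).val.app (op V) (k i)) = 0 :=
      ConcreteCategory.congr_hom (congrArg (fun q : _ ⟶ ModSite.unit O => q.val.app (op V))
        (kernel.condition φ)) (k i)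
    have hd : φ = ∑ j, π j ≫ mulBy (f j) := biproduct.desc_eq
    refine Eq.trans ?_ h2
    refine Eq.trans ?_ ((congrArg (evalAt ((kernel.ι φ).val.app (op V) (k i))) hd).trans (map_sum _ _ _)).symm
    refine Finset.sum_congr rfl fun j _ => ?_
    refine Eq.trans ?_ (mulBy_app (f j) V (a j i)).symm
    exact (mul_comm _ _).trans (congrArg (a j i * ·) ((f j).property g.op))

/-- Relations among sections of a flat module are locally trivial. -/
theorem relTrivial_of_isFlat {M : ModSite.Mod O} (hM : ModSite.IsFlat M) : RelTrivial M := by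
  intro U n f s h
  let f' : Fin n → (ModSite.unit (O.over U)).sections := fun j =>
    PresheafOfModules.sectionsMk (fun W => (O.obj.map W.unop.hom.op).hom (f j)) fun {W W'} a =>
      ((res_comp W.unop.hom a.unop.left (f j)).symm.trans
        (congrArg (fun q : W'.unop.left ⟶ U => (O.obj.map q.op).hom (f j)) (Over.w a.unop)))
  let s' : Fin n → ((ModSite.restr O U).obj M).sections := fun j =>
    PresheafOfModules.sectionsMk (fun W => rs M W.unop.hom (s j)) fun {W W'} a =>
      ((rs_comp M W.unop.hom a.unop.left (s j)).symm.trans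
        (congrArg (fun q : W'.unop.left ⟶ U => rs M q (s j)) (Over.w a.unop)))
  have h' : ∀ W : Over U, ∑ j, fval (f' j) W • sval (s' j) W = 0 := fun W => by
    have := congrArg (rs M W.hom) h
    rw [map_sum, map_zero] at this
    simp only [rs_smul] at this
    exact this
  obtain ⟨S, hS, hg⟩ := trivAt_of_isFlat_sections (isFlat_restr hM) f' s' h' (Over.mk (𝟙 U))
  refine ⟨Sieve.overEquiv (Over.mk (𝟙 U)) S, (J.mem_over_iff S).1 hS, fun V g hgS => ?_⟩
  obtain ⟨l, t, B, h₁, h₂⟩ := hg _ ((Sieve.overEquiv_iff S g).1 hgS)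
  let B' : Fin n → Fin l → O.obj.obj (op V) := B
  refine ⟨l, t, B', fun j => ?_, fun k => ?_⟩
  · refine Eq.trans ?_ (h₁ j)
    show rs M g (s j) = rs M g (rs M (𝟙 U) (s j))
    rw [rs_id]
  · refine Eq.trans (Finset.sum_congr rfl fun j _ => ?_) (h₂ () k)
    show B' j k * (O.obj.map g.op).hom (f j) = (O.obj.map g.op).hom ((O.obj.map (𝟙 U).op).hom (f j)) * B' j k
    rw [← res_comp (𝟙 U) g (f j), Category.comp_id]
    exact mul_comm _ _

theorem isFlat_iff_relTrivial {M : ModSite.Mod O} : ModSite.IsFlat M ↔ RelTrivial M :=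
  ⟨relTrivial_of_isFlat, isFlat_of_relTrivial⟩

end Groth.Agent.FlatRel
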