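import Groth.Agent.SiteBase.PullTensor.Basic
import Groth.Agent.FlatRel.Trivial
import Mathlib.Algebra.Category.ModuleCat.Presheaf.Free
import Mathlib.Algebra.Homology.ShortComplex.ModuleCat

/-! # A presheaf model of the inverse image of a sheaf of modules -/

universe u

open CategoryTheory Limits Opposite

namespace Groth.Agent.FlatRel

open Groth.Agent.SiteBase

variable {C D : Type u} [SmallCategory C] [SmallCategory D] {J : GrothendieckTopology C}
  {K : GrothendieckTopology D} {O_C : Sheaf J CommRingCat.{u}} {O_D : Sheaf K CommRingCat.{u}}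
  (f : ModSite.RMor O_C O_D) (M : ModSite.Mod O_D)

/-- symbols `(V, a : U ⟶ fV, m)` -/
def Sym (U : C) : Type u := Σ V : D, (U ⟶ f.fn.obj V) × ModSite.sect M V

/-- terms of relations on `V` -/
def Term (V' : D) : Type u := Σ V : D, (V' ⟶ V) × ModSite.sect M V

/-- value of a formal combination -/
noncomputable def value (V' : D) : (Term M V' →₀ O_D.obj.obj (op V')) →ₗ[O_D.obj.obj (op V')] ModSite.sect M V' :=
  Finsupp.linearCombination (O_D.obj.obj (op V')) fun i => rs M i.2.1 i.2.2

/-- relations over `U` -/
def Rel (U : C) : Type u :=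
  Σ V' : D, (U ⟶ f.fn.obj V') × {v : Term M V' →₀ O_D.obj.obj (op V') // value M V' v = 0}

/-- the ring map at a stage -/
def stageHom {U : C} {V : D} (a : U ⟶ f.fn.obj V) : O_D.obj.obj (op V) →+* O_C.obj.obj (op U) :=
  (O_C.obj.map a.op).hom.comp (f.sharp.hom.app (op V)).hom

lemma stageHom_comp {U W : C} {V : D} (a : U ⟶ f.fn.obj V) (k : W ⟶ U) (d : O_D.obj.obj (op V)) :
    stageHom f (k ≫ a) d = (O_C.obj.map k.op).hom (stageHom f a d) :=
  res_comp a k _

lemma stageHom_map {U : C} {V V' : D} (a : U ⟶ f.fn.obj V') (h : V' ⟶ V) (d : O_D.obj.obj (op V)) :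
    stageHom f (a ≫ f.fn.map h) d = stageHom f a ((O_D.obj.map h.op).hom d) := by
  show (O_C.obj.map (a ≫ f.fn.map h).op).hom _ = (O_C.obj.map a.op).hom _
  rw [res_comp]
  exact congrArg _ (ConcreteCategory.congr_hom (f.sharp.hom.naturality h.op) d).symm

lemma stageHom_id {V : D} (d : O_D.obj.obj (op V)) :
    stageHom f (𝟙 (f.fn.obj V)) d = (f.sharp.hom.app (op V)).hom d :=
  ConcreteCategory.congr_hom (O_C.obj.map_id (op (f.fn.obj V))) _

/-- presheaf of symbols -/
def symPre : Cᵒᵖ ⥤ Type u where
  obj U := Sym f M U.unop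
  map k := ↾fun s => ⟨s.1, k.unop ≫ s.2.1, s.2.2⟩
  map_id U := by ext s; exact Sigma.ext rfl (heq_of_eq (Prod.ext (Category.id_comp _) rfl))
  map_comp k k' := by ext s; exact Sigma.ext rfl (heq_of_eq (Prod.ext (Category.assoc _ _ _) rfl))

/-- presheaf of relations -/
def relPre : Cᵒᵖ ⥤ Type u where
  obj U := Rel f M U.unop
  map k := ↾fun r => ⟨r.1, k.unop ≫ r.2.1, r.2.2⟩
  map_id U := by ext s; exact Sigma.ext rfl (heq_of_eq (Prod.ext (Category.id_comp _) rfl))
  map_comp k k' := by ext s; exact Sigma.ext rfl (heq_of_eq (Prod.ext (Category.assoc _ _ _) rfl))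

/-- free presheaf of modules on symbols -/
noncomputable abbrev symFree : PMod O_C :=
  (PresheafOfModules.free (O_C.obj ⋙ forget₂ CommRingCat.{u} RingCat.{u})).obj (symPre f M)

/-- the combination of symbols given by a formal combination at a stage -/
noncomputable def pushVec {U : C} {V' : D} (a : U ⟶ f.fn.obj V') :
    (Term M V' →₀ O_D.obj.obj (op V')) →+ (Sym f M U →₀ O_C.obj.obj (op U)) :=
  Finsupp.liftAddHom fun i => (Finsupp.singleAddHom ⟨i.1, a ≫ f.fn.map i.2.1, i.2.2⟩).comp
    (stageHom f a).toAddMonoidHom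

lemma pushVec_single {U : C} {V' : D} (a : U ⟶ f.fn.obj V') (i : Term M V') (d : O_D.obj.obj (op V')) :
    pushVec f M a (Finsupp.single i d) =
      Finsupp.single ⟨i.1, a ≫ f.fn.map i.2.1, i.2.2⟩ (stageHom f a d) :=
  Finsupp.liftAddHom_apply_single _ _ _

/-- a combination as a section of the free presheaf -/
abbrev toFree {U : C} (v : Sym f M U →₀ O_C.obj.obj (op U)) : (symFree f M).obj (op U) := v

lemma symFree_map_single {U W : C} (k : W ⟶ U) (s : Sym f M U) (r : O_C.obj.obj (op U)) :
    (symFree f M).map k.op (toFree f M (Finsupp.single s r)) =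
      toFree f M (Finsupp.single ((⟨s.1, k ≫ s.2.1, s.2.2⟩ : Sym f M W)) ((O_C.obj.map k.op).hom r)) := by
  have h : (Finsupp.single s r : Sym f M U →₀ O_C.obj.obj (op U)) = r • Finsupp.single s 1 := by
    rw [Finsupp.smul_single, smul_eq_mul, mul_one]
  have h' : (Finsupp.single (⟨s.1, k ≫ s.2.1, s.2.2⟩ : Sym f M W) ((O_C.obj.map k.op).hom r) :
      Sym f M W →₀ O_C.obj.obj (op W)) =
      (O_C.obj.map k.op).hom r • Finsupp.single ⟨s.1, k ≫ s.2.1, s.2.2⟩ 1 := by
    rw [Finsupp.smul_single, smul_eq_mul, mul_one]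
  rw [h, h']
  refine (PresheafOfModules.map_smul (symFree f M) k.op r (ModuleCat.freeMk (s : (symPre f M).obj (op U)))).trans ?_
  refine congrArg _ ?_
  exact ModuleCat.freeDesc_apply (M := (ModuleCat.restrictScalars
    ((O_C.obj ⋙ forget₂ CommRingCat.{u} RingCat.{u}).map k.op).hom).obj ((symFree f M).obj (op W)))
    (↾fun x => ModuleCat.freeMk ((symPre f M).map k.op x)) (s : (symPre f M).obj (op U))

lemma pushVec_map {U W : C} {V' : D} (k : W ⟶ U) (a : U ⟶ f.fn.obj V')
    (v : Term M V' →₀ O_D.obj.obj (op V')) :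
    (symFree f M).map k.op (toFree f M (pushVec f M a v)) = toFree f M (pushVec f M (k ≫ a) v) := by
  induction v using Finsupp.induction_linear with
  | zero => simp only [map_zero]; exact map_zero _
  | add v w hv hw => simp only [map_add]; exact (map_add _ _ _).trans (by rw [hv, hw]; rfl)
  | single i d =>
    rw [pushVec_single, pushVec_single, symFree_map_single, stageHom_comp]
    rw [Category.assoc]

/-- relations as combinations of symbols -/
noncomputable def relMap :
    (PresheafOfModules.free (O_C.obj ⋙ forget₂ CommRingCat.{u} RingCat.{u})).obj (relPre f M) ⟶ symFree f M :=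
  PresheafOfModules.freeHomEquiv.symm
    { app := fun U => ↾fun r => toFree f M (pushVec f M r.2.1 r.2.2.1)
      naturality := fun {U W} k => ConcreteCategory.hom_ext _ _ fun r => (pushVec_map f M k.unop r.2.1 r.2.2.1).symm }

/-- the presheaf model of `f^* M` -/
noncomputable abbrev model : PMod O_C := cokernel (relMap f M)

/-- the class of a combination -/
noncomputable def cls (U : C) : (Sym f M U →₀ O_C.obj.obj (op U)) →ₗ[O_C.obj.obj (op U)] (model f M).obj (op U) :=
  ((cokernel.π (relMap f M)).app (op U)).hom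

lemma cls_map {U W : C} (k : W ⟶ U) (v : Sym f M U →₀ O_C.obj.obj (op U)) :
    (model f M).map k.op (cls f M U v) =
      cls f M W ((symFree f M).map k.op (toFree f M v)) :=
  (PresheafOfModules.naturality_apply (cokernel.π (relMap f M)) k.op (toFree f M v)).symm

lemma relMap_single {U : C} (r : Rel f M U) (c : O_C.obj.obj (op U)) :
    (relMap f M).app (op U) ((Finsupp.single r c : Rel f M U →₀ O_C.obj.obj (op U))) =
      toFree f M (c • pushVec f M r.2.1 r.2.2.1) := by
  have h : (Finsupp.single r c : Rel f M U →₀ O_C.obj.obj (op U)) = c • Finsupp.single r 1 := by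
    rw [Finsupp.smul_single, smul_eq_mul, mul_one]
  rw [h]
  refine (((relMap f M).app (op U)).hom.map_smul c
    (ModuleCat.freeMk (r : (relPre f M).obj (op U)))).trans ?_
  refine congrArg (fun q : (symFree f M).obj (op U) => c • q) ?_
  exact ModuleCat.freeDesc_apply (M := (symFree f M).obj (op U))
    (↾fun x : Rel f M U => toFree f M (pushVec f M x.2.1 x.2.2.1)) (r : (relPre f M).obj (op U))

lemma cls_pushVec {U : C} {V' : D} (a : U ⟶ f.fn.obj V') (v : Term M V' →₀ O_D.obj.obj (op V'))
    (hv : value M V' v = 0) : cls f M U (pushVec f M a v) = 0 := by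
  let r : Rel f M U := ⟨V', a, v, hv⟩
  have h := relMap_single f M r 1
  rw [one_smul] at h
  refine (congrArg ((cokernel.π (relMap f M)).app (op U)) h.symm).trans ?_
  exact ConcreteCategory.congr_hom (congrArg (fun q : _ ⟶ model f M => q.app (op U))
    (cokernel.condition (relMap f M))) _

/-- vanishing classes are combinations of relations -/
lemma exists_of_cls_eq_zero {U : C} (y : Sym f M U →₀ O_C.obj.obj (op U)) (h : cls f M U y = 0) :
    ∃ v : Rel f M U →₀ O_C.obj.obj (op U), y = v.sum fun r c => c • pushVec f M r.2.1 r.2.2.1 := by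
  let R := PresheafOfModules.evaluation (O_C.obj ⋙ forget₂ CommRingCat.{u} RingCat.{u}) (op U)
  have hex : ((ShortComplex.mk (relMap f M) (cokernel.π _) (cokernel.condition _)).map R).Exact :=
    (ShortComplex.exact_of_g_is_cokernel _ (cokernelIsCokernel (relMap f M))).map R
  have hex' : ∀ z : (symFree f M).obj (op U), (cokernel.π (relMap f M)).app (op U) z = 0 →
      ∃ v : Rel f M U →₀ O_C.obj.obj (op U), (relMap f M).app (op U) v = z :=
    fun z hz => (ShortComplex.moduleCat_exact_iff _).1 hex z hz
  obtain ⟨v, hv⟩ := hex' (toFree f M y) h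
  refine ⟨v, hv.symm.trans ?_⟩
  let L : (Rel f M U →₀ O_C.obj.obj (op U)) →ₗ[O_C.obj.obj (op U)] (Sym f M U →₀ O_C.obj.obj (op U)) :=
    ((relMap f M).app (op U)).hom
  show L v = _
  refine (congrArg L (Finsupp.sum_single v).symm).trans ?_
  rw [map_finsuppSum]
  exact Finsupp.sum_congr fun r _ => relMap_single f M r (v r)

lemma cls_eq_of_value_eq {U : C} {V' : D} (a : U ⟶ f.fn.obj V') (v w : Term M V' →₀ O_D.obj.obj (op V'))
    (h : value M V' v = value M V' w) : cls f M U (pushVec f M a v) = cls f M U (pushVec f M a w) :=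
  sub_eq_zero.1 (((congrArg (cls f M U) (map_sub (pushVec f M a) v w)).trans (map_sub _ _ _)).symm.trans
    (cls_pushVec f M a (v - w) (by rw [map_sub, h, sub_self])))

/-- the class of `(V', 𝟙, m)` at `fV'` -/
noncomputable def genCls (V' : D) (m : ModSite.sect M V') : (model f M).obj (op (f.fn.obj V')) :=
  cls f M (f.fn.obj V') (pushVec f M (𝟙 _) (Finsupp.single ⟨V', 𝟙 V', m⟩ 1))

lemma genCls_eq {V' : D} (m : ModSite.sect M V') (v : Term M V' →₀ O_D.obj.obj (op V')) (h : value M V' v = m) :
    genCls f M V' m = cls f M (f.fn.obj V') (pushVec f M (𝟙 _) v) := by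
  refine cls_eq_of_value_eq f M _ _ _ ?_
  rw [h, value, Finsupp.linearCombination_single, one_smul, rs_id]

lemma genCls_map {V V' : D} (h : V' ⟶ V) (m : ModSite.sect M V) :
    (model f M).map (f.fn.map h).op (genCls f M V m) = genCls f M V' (rs M h m) := by
  rw [genCls_eq f M (rs M h m) (Finsupp.single ⟨V, h, m⟩ 1)
    (by rw [value, Finsupp.linearCombination_single, one_smul])]
  show (model f M).map (f.fn.map h).op (cls f M (f.fn.obj V) (pushVec f M (𝟙 _) (Finsupp.single ⟨V, 𝟙 V, m⟩ 1))) = _
  rw [cls_map, pushVec_map]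
  show cls f M _ (pushVec f M _ _) = _
  rw [pushVec_single, pushVec_single, map_one, map_one]
  simp

/-- `M ⟶ f_* (model)^#` -/
noncomputable def toModelAdj : M ⟶ f.push.obj ((sh O_C).obj (model f M)) :=
  ⟨PresheafOfModules.homMk
    { app := fun V => AddCommGrpCat.ofHom (AddMonoidHom.mk'
        (fun m => ((shAdj O_C).unit.app (model f M)).app (op (f.fn.obj V.unop)) (genCls f M V.unop m))
        (fun (m m' : ModSite.sect M V.unop) => by
          refine (congrArg _ ?_).trans (map_add _ _ _)
          refine (genCls_eq f M (m + m') (Finsupp.single ⟨V.unop, 𝟙 _, m⟩ 1 + Finsupp.single ⟨V.unop, 𝟙 _, m'⟩ 1)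
            (by simp only [map_add, value, Finsupp.linearCombination_single, one_smul, rs_id])).trans ?_
          exact (congrArg (cls f M _) (map_add _ _ _)).trans (map_add _ _ _)))
      naturality := fun {V W} h => ConcreteCategory.hom_ext _ _ fun m => by
        refine Eq.trans ?_ (PresheafOfModules.naturality_apply ((shAdj O_C).unit.app (model f M))
          (f.fn.map h.unop).op (genCls f M V.unop m))
        exact congrArg _ (genCls_map f M h.unop m).symm }
    (fun V (d : O_D.obj.obj (op V.unop)) (m : ModSite.sect M V.unop) => by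
      have e : genCls f M V.unop (d • m) = stageHom f (𝟙 _) d • genCls f M V.unop m := by
        refine (genCls_eq f M (d • m) (Finsupp.single ⟨V.unop, 𝟙 _, m⟩ d)
          (by rw [value, Finsupp.linearCombination_single, rs_id])).trans ?_
        refine Eq.trans ?_ ((cls f M _).map_smul _ _)
        refine congrArg (cls f M _) ?_
        rw [pushVec_single, pushVec_single, map_one, Finsupp.smul_single, smul_eq_mul, mul_one]
      refine (congrArg (((shAdj O_C).unit.app (model f M)).app (op (f.fn.obj V.unop))).hom e).trans ?_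
      refine ((((shAdj O_C).unit.app (model f M)).app (op (f.fn.obj V.unop))).hom.map_smul _ _).trans ?_
      rw [stageHom_id]
      rfl)⟩

/-- `f^* M ⟶ (model)^#` -/
noncomputable def toModel : f.pull.obj M ⟶ (sh O_C).obj (model f M) :=
  (f.adj.homEquiv _ _).symm (toModelAdj f M)

/-- the canonical section `η(m)` of `f^* M` -/
noncomputable def pullSec {V : D} (m : ModSite.sect M V) : ModSite.sect (f.pull.obj M) (f.fn.obj V) :=
  (f.adj.unit.app M).val.app (op V) m

lemma pullSec_add {V : D} (m m' : ModSite.sect M V) : pullSec f M (m + m') = pullSec f M m + pullSec f M m' :=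
  map_add ((f.adj.unit.app M).val.app (op V)).hom m m'

lemma pullSec_map {V V' : D} (h : V' ⟶ V) (m : ModSite.sect M V) :
    rs (f.pull.obj M) (f.fn.map h) (pullSec f M m) = pullSec f M (rs M h m) :=
  (PresheafOfModules.naturality_apply (f.adj.unit.app M).val h.op m).symm

lemma pullSec_smul {V : D} (d : O_D.obj.obj (op V)) (m : ModSite.sect M V) :
    pullSec f M (d • m) = stageHom f (𝟙 _) d • pullSec f M m := by
  rw [stageHom_id]
  exact ((f.adj.unit.app M).val.app (op V)).hom.map_smul d m

lemma toModel_pullSec {V : D} (m : ModSite.sect M V) :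
    (toModel f M).val.app (op (f.fn.obj V)) (pullSec f M m) =
      ((shAdj O_C).unit.app (model f M)).app (op (f.fn.obj V)) (genCls f M V m) := by
  have h := (f.adj.homEquiv M ((sh O_C).obj (model f M))).apply_symm_apply (toModelAdj f M)
  rw [Adjunction.homEquiv_unit] at h
  exact ConcreteCategory.congr_hom (congrArg (fun q : M ⟶ f.push.obj ((sh O_C).obj (model f M)) => q.val.app (op V)) h) m

/-- evaluation of combinations of symbols in `f^* M` -/
noncomputable def ev (U : C) : (Sym f M U →₀ O_C.obj.obj (op U)) →ₗ[O_C.obj.obj (op U)]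
    ModSite.sect (f.pull.obj M) U :=
  Finsupp.linearCombination (O_C.obj.obj (op U)) fun s => rs (f.pull.obj M) s.2.1 (pullSec f M s.2.2)

lemma ev_pushVec {U : C} {V' : D} (a : U ⟶ f.fn.obj V') (v : Term M V' →₀ O_D.obj.obj (op V')) :
    ev f M U (pushVec f M a v) = rs (f.pull.obj M) a (pullSec f M (value M V' v)) := by
  induction v using Finsupp.induction_linear with
  | zero =>
    simp only [map_zero]
    exact ((congrArg (rs (f.pull.obj M) a) (map_zero ((f.adj.unit.app M).val.app (op V')).hom)).trans
      (map_zero _)).symm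
  | add v w hv hw => simp only [map_add, hv, hw, pullSec_add]
  | single i d =>
    rw [pushVec_single]
    simp only [ev, value, Finsupp.linearCombination_single]
    rw [pullSec_smul, rs_smul, ← pullSec_map, rs_comp, ← stageHom_comp, Category.comp_id]

/-- `f^* M` is the sheafified model -/
noncomputable def ofModel : model f M ⟶ (incl O_C).obj (f.pull.obj M) :=
  cokernel.desc (relMap f M) (PresheafOfModules.freeHomEquiv.symm
    { app := fun U => ↾fun s : Sym f M U.unop => rs (f.pull.obj M) s.2.1 (pullSec f M s.2.2)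
      naturality := fun {U W} k => ConcreteCategory.hom_ext _ _ fun (s : Sym f M U.unop) =>
        rs_comp (f.pull.obj M) s.2.1 k.unop _ }) (PresheafOfModules.hom_ext fun U =>
    ModuleCat.free_hom_ext fun (r : Rel f M U.unop) => (by
    show ev f M U.unop _ = 0
    exact (congrArg (ev f M U.unop) (ModuleCat.freeDesc_apply (M := (symFree f M).obj U)
      (↾fun x : Rel f M U.unop => toFree f M (pushVec f M x.2.1 x.2.2.1)) r)).trans
      ((ev_pushVec f M r.2.1 r.2.2.1).trans (by
        rw [r.2.2.2]
        exact (congrArg (rs (f.pull.obj M) r.2.1) (map_zero ((f.adj.unit.app M).val.app (op r.1)).hom)).trans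
          (map_zero _)))))

lemma ofModel_cls (U : C) (v : Sym f M U →₀ O_C.obj.obj (op U)) :
    (ofModel f M).app (op U) (cls f M U v) = ev f M U v :=
  ConcreteCategory.congr_hom (congrArg (fun q : symFree f M ⟶ _ => q.app (op U))
    (cokernel.π_desc (relMap f M) _ _)) (toFree f M v)

lemma ofModel_toModel :
    toModel f M ≫ ((shAdj O_C).homEquiv _ _).symm (ofModel f M) = 𝟙 (f.pull.obj M) := by
  apply (f.adj.homEquiv M (f.pull.obj M)).injective
  rw [Adjunction.homEquiv_id, Adjunction.homEquiv_naturality_right, toModel, Equiv.apply_symm_apply]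
  refine SheafOfModules.hom_ext (PresheafOfModules.hom_ext fun V => ModuleCat.hom_ext (LinearMap.ext fun m => ?_))
  have h := ((shAdj O_C).homEquiv (model f M) (f.pull.obj M)).apply_symm_apply (ofModel f M)
  rw [Adjunction.homEquiv_unit] at h
  refine (ConcreteCategory.congr_hom (congrArg (fun q : model f M ⟶ _ => q.app (op (f.fn.obj V.unop))) h)
    (genCls f M V.unop m)).trans ?_
  refine (ofModel_cls f M _ _).trans ((ev_pushVec f M _ _).trans ?_)
  rw [value, Finsupp.linearCombination_single, one_smul, rs_id]
  exact congrArg (pullSec f M) (rs_id M m)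

/-- sections of `f^* M` are locally combinations of inverse images of sections -/
theorem locally_ev {U : C} (n : ModSite.sect (f.pull.obj M) U) :
    Locally J U fun W w => ∃ v : Sym f M W →₀ O_C.obj.obj (op W), rs (f.pull.obj M) w n = ev f M W v := by
  let η := (shAdj O_C).unit.app (model f M)
  haveI : Presheaf.IsLocallySurjective J ((PresheafOfModules.toPresheaf _).map η) := isLocallySurjective_unit _
  let z := (toModel f M).val.app (op U) n
  refine ⟨_, Presheaf.imageSieve_mem J ((PresheafOfModules.toPresheaf _).map η) z, fun W w ⟨q, hq⟩ => ?_⟩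
  obtain ⟨v, hv⟩ := (ModuleCat.epi_iff_surjective ((cokernel.π (relMap f M)).app (op W))).1
    (inferInstanceAs (Epi ((PresheafOfModules.evaluation _ (op W)).map (cokernel.π (relMap f M))))) q
  refine ⟨v, ?_⟩
  have h := ((shAdj O_C).homEquiv (model f M) (f.pull.obj M)).apply_symm_apply (ofModel f M)
  rw [Adjunction.homEquiv_unit] at h
  refine Eq.trans ?_ (ofModel_cls f M W v)
  refine Eq.trans ?_ (congrArg ((ofModel f M).app (op W)) hv).symm
  refine Eq.trans ?_ (ConcreteCategory.congr_hom (congrArg (fun q : model f M ⟶ _ => q.app (op W)) h) q)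
  show _ = (((shAdj O_C).homEquiv _ _).symm (ofModel f M)).val.app (op W) (η.app (op W) q)
  refine Eq.trans ?_ (congrArg ((((shAdj O_C).homEquiv _ _).symm (ofModel f M)).val.app (op W))
    (hq.trans (PresheafOfModules.naturality_apply (toModel f M).val w.op n).symm)).symm
  exact (ConcreteCategory.congr_hom (congrArg (fun q : _ ⟶ f.pull.obj M => q.val.app (op W))
    (ofModel_toModel f M)) _).symm

/-- vanishing combinations of inverse images come locally from relations -/
theorem locally_relations {U : C} {ι : Type*} [Fintype ι] (V : ι → D) (a : ∀ i, U ⟶ f.fn.obj (V i))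
    (c : ι → O_C.obj.obj (op U)) (m : ∀ i, ModSite.sect M (V i))
    (h : ∑ i, c i • rs (f.pull.obj M) (a i) (pullSec f M (m i)) = 0) :
    Locally J U fun W w => ∃ v : Rel f M W →₀ O_C.obj.obj (op W),
      ∑ i, Finsupp.single (⟨V i, w ≫ a i, m i⟩ : Sym f M W) ((O_C.obj.map w.op).hom (c i)) =
        v.sum fun r d => d • pushVec f M r.2.1 r.2.2.1 := by
  let η := (shAdj O_C).unit.app (model f M)
  haveI : Presheaf.IsLocallyInjective J ((PresheafOfModules.toPresheaf _).map η) := isLocallyInjective_unit _
  let y : Sym f M U →₀ O_C.obj.obj (op U) := ∑ i, Finsupp.single ⟨V i, a i, m i⟩ (c i)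
  have hy : η.app (op U) (cls f M U y) = η.app (op U) 0 := by
    refine Eq.trans ?_ (((congrArg ((toModel f M).val.app (op U)) h).trans (map_zero _)).trans (map_zero _).symm)
    simp only [y, map_sum]
    refine Finset.sum_congr rfl fun i _ => ?_
    have e : cls f M U (Finsupp.single ⟨V i, a i, m i⟩ (c i)) =
        c i • (model f M).map (a i).op (genCls f M (V i) (m i)) := by
      rw [genCls, cls_map, pushVec_map, pushVec_single, map_one, f.fn.map_id]
      simp only [Category.comp_id]
      refine (congrArg (cls f M U) ?_).trans ((cls f M U).map_smul (c i) _)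
      simp [toFree]
    rw [e]
    refine ((η.app (op U)).hom.map_smul _ _).trans ?_
    refine Eq.trans ?_ ((((toModel f M).val.app (op U)).hom.map_smul _ _)).symm
    refine congrArg (fun q => c i • q) ?_
    refine (PresheafOfModules.naturality_apply η (a i).op _).trans ?_
    refine Eq.trans ?_ (PresheafOfModules.naturality_apply (toModel f M).val (a i).op _).symm
    exact congrArg _ (toModel_pullSec f M (m i)).symm
  refine ⟨_, Presheaf.equalizerSieve_mem J ((PresheafOfModules.toPresheaf _).map η) (cls f M U y) 0 hy,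
    fun W w hw => ?_⟩
  have h0 : cls f M W ((symFree f M).map w.op (toFree f M y)) = 0 :=
    (cls_map f M w y).symm.trans (hw.trans (map_zero _))
  obtain ⟨v, hv⟩ := exists_of_cls_eq_zero f M _ h0
  refine ⟨v, Eq.trans ?_ hv⟩
  refine Eq.trans ?_ (map_sum ((symFree f M).map w.op).hom (fun i => toFree f M (Finsupp.single ⟨V i, a i, m i⟩ (c i)))
    Finset.univ).symm
  exact Finset.sum_congr rfl fun i _ => (symFree_map_single f M w ⟨V i, a i, m i⟩ (c i)).symm

end Groth.Agent.FlatRel
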