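import Groth.Agent.FlatRel.CoverFlat
import Groth.Agent.FlatRel.PullModel
import Groth.Agent.FlatRel.Forward

/-! # Inverse images of flat modules are flat -/

universe u

open CategoryTheory Limits Opposite

namespace Groth.Agent.FlatRel

open Groth.Agent.SiteBase

section

variable {C : Type u} [SmallCategory C] {J : GrothendieckTopology C}

theorem Locally.forall_fin {U : C} : ∀ {n : ℕ} (P : Fin n → ∀ ⦃V : C⦄, (V ⟶ U) → Prop),
    (∀ i, Locally J U (P i)) → Locally J U fun _ g => ∀ i, P i g := by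
  intro n
  induction n with
  | zero => exact fun P _ => Locally.of_all fun V g i => i.elim0
  | succ n ih =>
    refine fun P h => ((ih (fun i => P i.castSucc) fun i => h _).and (h (Fin.last n))).mono
      fun V g ⟨h₁, h₂⟩ i => ?_
    induction i using Fin.lastCases with
    | last => exact h₂
    | cast i => exact h₁ i

end

variable {C D : Type u} [SmallCategory C] [SmallCategory D] {J : GrothendieckTopology C}
  {K : GrothendieckTopology D} {O_C : Sheaf J CommRingCat.{u}} {O_D : Sheaf K CommRingCat.{u}}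
  (f : ModSite.RMor O_C O_D) (M : ModSite.Mod O_D)

/-- pull a relation on `V'` back to `V₀` and collect it on values -/
noncomputable def relVals {V' V₀ : D} (h : V₀ ⟶ V') :
    (Term M V' →₀ O_D.obj.obj (op V')) →+ (ModSite.sect M V₀ →₀ O_D.obj.obj (op V₀)) :=
  Finsupp.liftAddHom fun i => (Finsupp.singleAddHom (rs M (h ≫ i.2.1) i.2.2)).comp
    (O_D.obj.map h.op).hom.toAddMonoidHom

lemma relVals_single {V' V₀ : D} (h : V₀ ⟶ V') (i : Term M V') (d : O_D.obj.obj (op V')) :
    relVals M h (Finsupp.single i d) = Finsupp.single (rs M (h ≫ i.2.1) i.2.2) ((O_D.obj.map h.op).hom d) :=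
  Finsupp.liftAddHom_apply_single _ _ _

lemma relVals_value {V' V₀ : D} (h : V₀ ⟶ V') (v : Term M V' →₀ O_D.obj.obj (op V')) :
    Finsupp.linearCombination (O_D.obj.obj (op V₀)) id (relVals M h v) = rs M h (value M V' v) := by
  induction v using Finsupp.induction_linear with
  | zero => simp only [map_zero]
  | add v w hv hw => simp only [map_add, hv, hw]
  | single i d =>
    simp only [relVals_single, value, Finsupp.linearCombination_single, id]
    rw [rs_smul, ← rs_comp]

/-- move a combination of symbols to values on `V₀` -/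
noncomputable def moveSym {W W' : C} {V₀ : D} (w : W' ⟶ W) (φ : Sym f M W → ModSite.sect M V₀) :
    (Sym f M W →₀ O_C.obj.obj (op W)) →+ (ModSite.sect M V₀ →₀ O_C.obj.obj (op W')) :=
  Finsupp.liftAddHom fun s => (Finsupp.singleAddHom (φ s)).comp (O_C.obj.map w.op).hom.toAddMonoidHom

lemma moveSym_single {W W' : C} {V₀ : D} (w : W' ⟶ W) (φ : Sym f M W → ModSite.sect M V₀) (s : Sym f M W)
    (r : O_C.obj.obj (op W)) :
    moveSym f M w φ (Finsupp.single s r) = Finsupp.single (φ s) ((O_C.obj.map w.op).hom r) :=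
  Finsupp.liftAddHom_apply_single _ _ _

lemma moveSym_pushVec {W W' : C} {V₀ : D} (w : W' ⟶ W) (φ : Sym f M W → ModSite.sect M V₀) {V' : D}
    (a : W ⟶ f.fn.obj V') (cc : W' ⟶ f.fn.obj V₀) (h : V₀ ⟶ V') (hh : cc ≫ f.fn.map h = w ≫ a)
    (e : O_C.obj.obj (op W)) (v : Term M V' →₀ O_D.obj.obj (op V'))
    (hφ : ∀ i ∈ v.support, φ ⟨i.1, a ≫ f.fn.map i.2.1, i.2.2⟩ = rs M (h ≫ i.2.1) i.2.2) :
    moveSym f M w φ (e • pushVec f M a v) =
      (O_C.obj.map w.op).hom e • Finsupp.mapRange (stageHom f cc) (map_zero _) (relVals M h v) := by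
  conv_lhs => rw [← Finsupp.sum_single v]
  conv_rhs => rw [← Finsupp.sum_single v]
  simp only [Finsupp.sum, map_sum, Finset.smul_sum, Finsupp.mapRange_finsetSum]
  refine Finset.sum_congr rfl fun i hi => ?_
  rw [pushVec_single, Finsupp.smul_single, smul_eq_mul, moveSym_single, relVals_single,
    Finsupp.mapRange_single, Finsupp.smul_single, smul_eq_mul, hφ i hi, map_mul, ← stageHom_comp, ← hh,
    stageHom_map]

/-- a vanishing combination comes locally from relations at a single stage -/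
theorem exists_stage {W : C} {ι : Type u} [Fintype ι] (V : ι → D) (a : ∀ i, W ⟶ f.fn.obj (V i))
    (c : ι → O_C.obj.obj (op W)) (m : ∀ i, ModSite.sect M (V i))
    (hrel : ∑ i, c i • rs (f.pull.obj M) (a i) (pullSec f M (m i)) = 0) :
    Locally J W fun W' w => ∃ (V₀ : D) (cc : W' ⟶ f.fn.obj V₀) (h : ∀ i, V₀ ⟶ V i) (p : ℕ)
      (q : Fin p → (ModSite.sect M V₀ →₀ O_D.obj.obj (op V₀))) (e : Fin p → O_C.obj.obj (op W')),
      (∀ i, cc ≫ f.fn.map (h i) = w ≫ a i) ∧
      (∀ r, Finsupp.linearCombination (O_D.obj.obj (op V₀)) id (q r) = 0) ∧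
      ∑ i, Finsupp.single (rs M (h i) (m i)) ((O_C.obj.map w.op).hom (c i)) =
        ∑ r, e r • Finsupp.mapRange (stageHom f cc) (map_zero _) (q r) := by
  classical
  refine (locally_relations f M V a c m hrel).bind fun W' w' ⟨ρ, hρ⟩ => ?_
  let sym₁ : ι → Sym f M W' := fun t => ⟨V t, w' ≫ a t, m t⟩
  let symR : ∀ r : Rel f M W', Term M r.1 → Sym f M W' := fun r i => ⟨i.1, r.2.1 ≫ f.fn.map i.2.1, i.2.2⟩
  let Z : Finset (Sym f M W') := Finset.univ.image sym₁ ∪
    ρ.support.biUnion fun r => r.2.2.1.support.image (symR r)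
  let E := Σ r : ρ.support, {i // i ∈ r.1.2.2.1.support}
  have hZ : ∀ e : E, symR e.1.1 e.2.1 ∈ Z := fun e =>
    Finset.mem_union_right _ (Finset.mem_biUnion.2 ⟨e.1.1, e.1.2, Finset.mem_image_of_mem _ e.2.2⟩)
  have hZ₁ : ∀ t, sym₁ t ∈ Z := fun t =>
    Finset.mem_union_left _ (Finset.mem_image_of_mem _ (Finset.mem_univ t))
  let obj : Z ⊕ ρ.support → D := Sum.elim (fun s => s.1.1) (fun r => r.1.1)
  let arr : ∀ t : Z ⊕ ρ.support, W' ⟶ f.fn.obj (obj t) :=
    fun t => Sum.casesOn (motive := fun t => W' ⟶ f.fn.obj (obj t)) t (fun s => s.1.2.1) (fun r => r.1.2.1)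
  have hb : ∀ e : E, arr (Sum.inr e.1) ≫ f.fn.map e.2.1.2.1 = arr (Sum.inl ⟨_, hZ e⟩) := fun e => rfl
  have hcone := locally_cone f obj arr (fun e : E => Sum.inr e.1) (fun e : E => Sum.inl ⟨_, hZ e⟩)
    (fun e => e.2.1.2.1) hb
  refine hcone.mono fun W'' w'' hw => ?_
  obtain ⟨V₀, cc, h, hcc, hedge⟩ := hw
  let φ : Sym f M W' → ModSite.sect M V₀ := fun s =>
    if hs : s ∈ Z then rs M (h (Sum.inl ⟨s, hs⟩)) s.2.2 else 0
  have hφ : ∀ s (hs : s ∈ Z), φ s = rs M (h (Sum.inl ⟨s, hs⟩)) s.2.2 := fun s hs => dif_pos hs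
  let er := (Fintype.equivFin ρ.support).symm
  let q : ρ.support → (ModSite.sect M V₀ →₀ O_D.obj.obj (op V₀)) := fun r =>
    relVals M (h (Sum.inr r)) r.1.2.2.1
  refine ⟨V₀, cc, fun i => h (Sum.inl ⟨sym₁ i, hZ₁ i⟩), Fintype.card ρ.support, fun r => q (er r),
    fun r => (O_C.obj.map w''.op).hom (ρ (er r).1), fun i => ?_, fun r => ?_, ?_⟩
  · exact (hcc (Sum.inl ⟨sym₁ i, hZ₁ i⟩)).trans (Category.assoc _ _ _).symm
  · show Finsupp.linearCombination _ id (relVals M (h (Sum.inr (er r))) (er r).1.2.2.1) = 0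
    exact (relVals_value M _ _).trans ((congrArg (rs M _) (er r).1.2.2.2).trans (map_zero _))
  · have key := ((map_sum (moveSym f M w'' φ) _ _).symm.trans (congrArg (moveSym f M w'' φ) hρ)).trans
      (map_sum (moveSym f M w'' φ) _ _)
    refine Eq.trans (Finset.sum_congr rfl fun i _ => ?_) (key.trans ?_)
    · refine Eq.trans ?_ (moveSym_single f M w'' φ _ _).symm
      exact congrArg₂ Finsupp.single (hφ _ (hZ₁ i)).symm (res_comp w' w'' (c i))
    · rw [er.sum_comp (fun r : ρ.support => (O_C.obj.map w''.op).hom (ρ r.1) •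
        Finsupp.mapRange (stageHom f cc) (map_zero _) (q r))]
      rw [← Finset.sum_coe_sort ρ.support]
      refine Finset.sum_congr rfl fun r _ => ?_
      have hφ' : ∀ i ∈ r.1.2.2.1.support, φ ⟨i.1, r.1.2.1 ≫ f.fn.map i.2.1, i.2.2⟩ =
          rs M (h (Sum.inr r) ≫ i.2.1) i.2.2 := fun i hi => by
        have e1 := hφ (symR r.1 i) (hZ ⟨r, ⟨i, hi⟩⟩)
        refine e1.trans ?_
        have e2 : h (Sum.inr r) ≫ i.2.1 = h (Sum.inl ⟨symR r.1 i, hZ ⟨r, ⟨i, hi⟩⟩⟩) := hedge ⟨r, ⟨i, hi⟩⟩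
        rw [e2]
        exact rfl
      exact moveSym_pushVec f M w'' φ r.1.2.1 cc (h (Sum.inr r)) (hcc (Sum.inr r)) (ρ r.1) r.1.2.2.1 hφ'

variable {M}

/-- collect a combination of values against a matrix -/
noncomputable def pairB {V₀ : D} {Z W' : C} (Y : Finset (ModSite.sect M V₀)) (z : Z ⟶ W')
    (b : Y → O_C.obj.obj (op Z)) : (ModSite.sect M V₀ →₀ O_C.obj.obj (op W')) →+ O_C.obj.obj (op Z) :=
  AddMonoidHom.mk' (fun x => ∑ y : Y, (O_C.obj.map z.op).hom (x y.1) * b y)
    (fun x x' => by simp only [Finsupp.add_apply, map_add, add_mul, Finset.sum_add_distrib])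

lemma pairB_single {V₀ : D} {Z W' : C} (Y : Finset (ModSite.sect M V₀)) (z : Z ⟶ W')
    (b : Y → O_C.obj.obj (op Z)) (y₀ : Y) (r : O_C.obj.obj (op W')) :
    pairB Y z b (Finsupp.single y₀.1 r) = (O_C.obj.map z.op).hom r * b y₀ := by
  show ∑ y : Y, (O_C.obj.map z.op).hom (Finsupp.single y₀.1 r y.1) * b y = _
  rw [Finset.sum_eq_single y₀]
  · simp
  · intro y _ hy
    simp [Finsupp.single_eq_of_ne (fun e => hy (Subtype.ext e))]
  · simp

/-- inverse images preserve the triviality of relations -/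
theorem relTrivial_pull (hM : RelTrivial M) : RelTrivial (f.pull.obj M) := by
  classical
  intro U n c s hrel
  refine (Locally.forall_fin _ fun j => locally_ev f M (s j)).bind fun W w hw => ?_
  choose v hv using hw
  let T₁ : Finset (Sym f M W) := Finset.univ.biUnion fun j => (v j).support
  let c₁ : T₁ → O_C.obj.obj (op W) := fun t => ∑ j, (O_C.obj.map w.op).hom (c j) * v j t.1
  have hs₁ : ∀ j, rs (f.pull.obj M) w (s j) =
      ∑ t : T₁, v j t.1 • rs (f.pull.obj M) t.1.2.1 (pullSec f M t.1.2.2) := fun j => by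
    rw [hv j, Finset.sum_coe_sort T₁ (fun t => v j t • rs (f.pull.obj M) t.2.1 (pullSec f M t.2.2))]
    exact (Finsupp.linearCombination_apply (R := O_C.obj.obj (op W)) (v j)).trans
      (Finsupp.sum_of_support_subset _ (fun t ht => Finset.mem_biUnion.2 ⟨j, Finset.mem_univ j, ht⟩) _
        fun _ _ => zero_smul _ _)
  have hrel₁ : ∑ t : T₁, c₁ t • rs (f.pull.obj M) t.1.2.1 (pullSec f M t.1.2.2) = 0 := by
    have := congrArg (rs (f.pull.obj M) w) hrel
    rw [map_sum, map_zero] at this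
    rw [← this]
    simp only [rs_smul, hs₁, Finset.smul_sum, smul_smul, c₁, Finset.sum_smul]
    exact Finset.sum_comm
  have hstage := exists_stage f M (fun t : T₁ => t.1.1) (fun t => t.1.2.1) c₁ (fun t => t.1.2.2) hrel₁
  refine hstage.bind fun W' w' hw' => ?_
  obtain ⟨V₀, cc, h, p, q, e, hcc, hq, heq⟩ := hw'
  let y₁ : T₁ → ModSite.sect M V₀ := fun t => rs M (h t) t.1.2.2
  let Y : Finset (ModSite.sect M V₀) := Finset.univ.image y₁ ∪ Finset.univ.biUnion fun r => (q r).support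
  have hY : ∀ t, y₁ t ∈ Y := fun t => Finset.mem_union_left _ (Finset.mem_image_of_mem _ (Finset.mem_univ t))
  have hq' : ∀ r, ∑ y : Y, q r y.1 • y.1 = 0 := fun r => by
    rw [Finset.sum_coe_sort Y (fun y => q r y • y), ← hq r]
    exact ((Finsupp.linearCombination_apply (R := O_D.obj.obj (op V₀)) (v := id) (q r)).trans
      (Finsupp.sum_of_support_subset _ (fun y hy => Finset.mem_union_right _
        (Finset.mem_biUnion.2 ⟨r, Finset.mem_univ _, hy⟩)) _ (fun _ _ => zero_smul _ _))).symm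
  obtain ⟨S, hS, hgS⟩ := hM.simultaneous (fun y : Y => y.1) _ hq'
  have hcov := locally_cover f cc hS
  refine hcov.mono fun Z' z hz => ?_
  obtain ⟨V', g, c', hg, hc'⟩ := hz
  obtain ⟨l, t, B, h₁, h₂⟩ := hgS g hg
  let π : Z' ⟶ W := z ≫ w'
  have path : ∀ t₁ : T₁, π ≫ t₁.1.2.1 = c' ≫ f.fn.map (g ≫ h t₁) := fun t₁ => by
    rw [f.fn.map_comp, reassoc_of% hc', hcc]
    exact Category.assoc _ _ _
  refine ⟨l, fun k => rs (f.pull.obj M) c' (pullSec f M (t k)),
    fun j k => ∑ t₁ : T₁, (O_C.obj.map π.op).hom (v j t₁.1) * stageHom f c' (B ⟨_, hY t₁⟩ k), fun j => ?_, fun k => ?_⟩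
  · show rs (f.pull.obj M) ((z ≫ w') ≫ w) (s j) = _
    rw [rs_comp, hs₁ j, map_sum]
    simp only [Finset.sum_smul]
    refine Eq.trans (Finset.sum_congr rfl fun t₁ _ => ?_) Finset.sum_comm
    rw [rs_smul, ← rs_comp]
    show _ • rs (f.pull.obj M) (π ≫ t₁.1.2.1) _ = _
    rw [path t₁, rs_comp, pullSec_map, rs_comp]
    have e1 : rs M g (y₁ t₁) = ∑ k, B ⟨_, hY t₁⟩ k • t k := h₁ ⟨_, hY t₁⟩
    rw [e1]
    refine Eq.trans ?_ (Finset.sum_congr rfl fun k _ => (mul_smul _ _ _).symm)
    rw [← Finset.smul_sum]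
    refine congrArg (fun x => (O_C.obj.map π.op).hom (v j t₁.1) • x) ?_
    refine (congrArg (rs (f.pull.obj M) c') (map_sum ((f.adj.unit.app M).val.app (op V')).hom _ _)).trans
      ((map_sum _ _ _).trans (Finset.sum_congr rfl fun k _ => ?_))
    refine (congrArg (rs (f.pull.obj M) c') (pullSec_smul f M (B ⟨_, hY t₁⟩ k) (t k))).trans ?_
    rw [rs_smul, ← stageHom_comp, Category.comp_id]
  · let b : Y → O_C.obj.obj (op Z') := fun y => stageHom f c' (B y k)
    have key := congrArg (pairB Y z b) heq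
    rw [map_sum, map_sum] at key
    refine Eq.trans ?_ (key.trans ?_)
    · simp only [Finset.sum_mul]
      rw [Finset.sum_comm]
      refine Finset.sum_congr rfl fun t₁ _ => ?_
      refine Eq.trans ?_ (pairB_single Y z b ⟨_, hY t₁⟩ _).symm
      rw [← res_comp]
      show _ = (O_C.obj.map π.op).hom (∑ j, (O_C.obj.map w.op).hom (c j) * v j t₁.1) * b ⟨_, hY t₁⟩
      rw [map_sum, Finset.sum_mul]
      refine Finset.sum_congr rfl fun j _ => ?_
      rw [map_mul, ← res_comp]
      show _ * (O_C.obj.map (π ≫ w).op).hom (c j) = _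
      ring
    · refine Finset.sum_eq_zero fun r _ => ?_
      show ∑ y : Y, (O_C.obj.map z.op).hom (e r * stageHom f cc (q r y.1)) * stageHom f c' (B y k) = 0
      have h₂' := congrArg (stageHom f c') (h₂ r k)
      rw [map_sum, map_zero] at h₂'
      simp only [map_mul] at h₂'
      calc ∑ y : Y, (O_C.obj.map z.op).hom (e r * stageHom f cc (q r y.1)) * stageHom f c' (B y k)
          = (O_C.obj.map z.op).hom (e r) *
              ∑ y : Y, stageHom f c' ((O_D.obj.map g.op).hom (q r y.1)) * stageHom f c' (B y k) := by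
            rw [Finset.mul_sum]
            refine Finset.sum_congr rfl fun y _ => ?_
            rw [map_mul, ← stageHom_comp, ← hc', stageHom_map]
            ring
        _ = 0 := by rw [h₂', mul_zero]

/-- inverse images of flat modules are flat -/
theorem isFlat_pull (hM : ModSite.IsFlat M) : ModSite.IsFlat (f.pull.obj M) :=
  isFlat_of_relTrivial (relTrivial_pull f (relTrivial_of_isFlat hM))

end Groth.Agent.FlatRel
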