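import Groth.Agent.FlatRel.UnitHom
import Groth.Agent.FlatRel.Forward
import Groth.Agent.FlatRel.Pull

/-! # Maps from finitely presented modules to flat ones factor locally through finite free modules -/

universe u

open CategoryTheory Limits Opposite

namespace Groth.Agent.FlatRel

open Groth.Agent.SiteBase

variable {C : Type u} [SmallCategory C] {J : GrothendieckTopology C} {O : Sheaf J CommRingCat.{u}}

section

variable {X W : C} (f : W ⟶ X)

/-- the terminal object of `C/X` -/
noncomputable abbrev top (X : C) : Over X := Over.mk (𝟙 X)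

lemma val1_resMap {M : ModSite.Mod O}
    (p : SheafOfModules.unit (ModSite.ringSh (O.over X)) ⟶ (ModSite.restr O X).obj M) :
    (show ModSite.sect M W from ((resMap O f).map p).val.app (op (top W))
      (1 : (ModSite.ringSh (O.over W)).obj.obj (op (top W)))) = rs M f (val1 (top X) p) := by
  let U' : Over X := (Over.map f).obj (top W)
  let τ : U' ⟶ top X := Over.homMk f (by simp [U'])
  refine Eq.trans ?_ (PresheafOfModules.sections_property ((((ModSite.restr O X).obj M)).unitHomEquiv p) τ.op).symm
  rfl

lemma val1_resMap_unit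
    (p : SheafOfModules.unit (ModSite.ringSh (O.over X)) ⟶ SheafOfModules.unit (ModSite.ringSh (O.over X))) :
    (show O.obj.obj (op W) from ((resMap O f).map p).val.app (op (top W))
      (1 : (ModSite.ringSh (O.over W)).obj.obj (op (top W)))) =
      (O.obj.map f.op).hom (show O.obj.obj (op X) from val1 (top X) p) := by
  let U' : Over X := (Over.map f).obj (top W)
  let τ : U' ⟶ top X := Over.homMk f (by simp [U'])
  refine Eq.trans ?_ (PresheafOfModules.sections_property
    ((SheafOfModules.unit (ModSite.ringSh (O.over X))).unitHomEquiv p) τ.op).symm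
  rfl

end

lemma hom_ext_resMap {X W : C} (f : W ⟶ X) {M : ModSite.Mod (O.over W)}
    {g h : (resMap O f).obj (SheafOfModules.unit (ModSite.ringSh (O.over X))) ⟶ M}
    (e : g.val.app (op (top W)) (1 : (ModSite.ringSh (O.over W)).obj.obj (op (top W))) =
      h.val.app (op (top W)) (1 : (ModSite.ringSh (O.over W)).obj.obj (op (top W)))) : g = h :=
  @hom_ext1 _ _ _ (O.over W) (top W) Over.mkIdTerminal M g h e

/-- The local factorisation. -/
theorem exists_factor {F H : ModSite.Mod O} (φ : F ⟶ H) {Xi : C}
    (P : ((ModSite.restr O Xi).obj F).Presentation) [Fintype P.generators.I] [DecidableEq P.generators.I]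
    [Fintype P.relations.I] (hH : RelTrivial H) {V : C} (f : V ⟶ Xi) :
    Locally J V fun W _ => ∃ (n : ℕ) (a : (ModSite.restr O W).obj F ⟶ SheafOfModules.free (ULift.{u} (Fin n)))
      (b : SheafOfModules.free (ULift.{u} (Fin n)) ⟶ (ModSite.restr O W).obj H),
        a ≫ b = (ModSite.restr O W).map φ := by
  classical
  let φX := (ModSite.restr O Xi).map φ
  let π := P.generators.π
  let k : SheafOfModules.free P.relations.I ⟶ SheafOfModules.free P.generators.I :=
    (SheafOfModules.freeHomEquiv _).symm P.relations.s ≫ kernel.ι π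
  have hk : k ≫ π = 0 := by simp [k]
  let y : P.generators.I → ModSite.sect H Xi := fun i => val1 (top Xi) (SheafOfModules.ιFree i ≫ π ≫ φX)
  let e := fun r i => SheafOfModules.ιFree r ≫ k ≫ proj (O.over Xi) i
  let A : P.relations.I → P.generators.I → O.obj.obj (op Xi) := fun r i => val1 (top Xi) (e r i)
  have hAy : ∀ r, ∑ i, A r i • y i = 0 := fun r => by
    refine Eq.trans (app_free (T := top Xi) (π ≫ φX) (val1 (top Xi) (SheafOfModules.ιFree r ≫ k))).symm ?_
    rw [← val1_comp, Category.assoc, reassoc_of% hk, zero_comp, comp_zero]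
    rfl
  let er := Fintype.equivFin P.relations.I
  have hV : ∀ r, ∑ i, (O.obj.map f.op).hom (A (er.symm r) i) • rs H f (y i) = 0 := fun r => by
    simp only [← rs_smul]
    rw [← map_sum, hAy, map_zero]
  refine (hH.simultaneous (fun i => rs H f (y i)) _ hV).mono fun W w ⟨l, t, B, h₁, h₂⟩ => ?_
  let f' := w ≫ f
  let Φ := resMap O f'
  haveI : Φ.PreservesZeroMorphisms := Functor.preservesZeroMorphisms_of_map_zero_object
    (IsInitial.isInitialObj Φ _ (isZero_zero _).isInitial).isZero.isoZero
  haveI : PreservesBinaryBiproducts Φ := preservesBinaryBiproducts_of_preservesBinaryCoproducts Φ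
  haveI : Φ.Additive := Functor.additive_of_preservesBinaryBiproducts Φ
  let L : ModSite.Mod (O.over W) := SheafOfModules.free (ULift.{u} (Fin l))
  let row : P.generators.I → ModSite.sect L (top W) := fun i =>
    ∑ j, (show (O.over W).obj.obj (op (top W)) from B i j) • val1 (top W) (SheafOfModules.ιFree (ULift.up j))
  let hc := isColimitCofanMkObjOfIsColimit Φ _ _ (SheafOfModules.isColimitFreeCofan (R := ModSite.ringSh (O.over Xi)) P.generators.I)
  let α : Φ.obj (SheafOfModules.free P.generators.I) ⟶ L :=
    Cofan.IsColimit.desc hc fun i => hom1 Over.mkIdTerminal L (row i)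
  have hα : ∀ i, Φ.map (SheafOfModules.ιFree i) ≫ α = hom1 Over.mkIdTerminal L (row i) := fun i =>
    Cofan.IsColimit.fac hc (fun i => hom1 Over.mkIdTerminal L (row i)) i
  have hkα : Φ.map k ≫ α = 0 := by
    let hr := isColimitCofanMkObjOfIsColimit Φ _ _ (SheafOfModules.isColimitFreeCofan (R := ModSite.ringSh (O.over Xi)) P.relations.I)
    refine Cofan.IsColimit.hom_ext hr _ _ fun r => ?_
    show Φ.map (SheafOfModules.ιFree r) ≫ Φ.map k ≫ α = Φ.map (SheafOfModules.ιFree r) ≫ 0
    rw [comp_zero, ← Category.assoc, ← Φ.map_comp, ← Category.comp_id (SheafOfModules.ιFree r ≫ k),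
      ← sum_proj (O.over Xi), Preadditive.comp_sum, Φ.map_sum, Preadditive.sum_comp]
    simp only [← Category.assoc]
    simp only [Φ.map_comp, Category.assoc, hα]
    refine hom_ext_resMap f' ?_
    let ev : (SheafOfModules.unit (ModSite.ringSh (O.over W)) ⟶ L) →+ ModSite.sect L (top W) :=
      AddMonoidHom.mk' (fun q => val1 (top W) q) fun _ _ => rfl
    let a' : P.generators.I → (O.over W).obj.obj (op (top W)) := fun i => (O.obj.map f'.op).hom (A r i)
    refine (map_sum ev _ _).trans (Eq.trans ?_ (map_zero ev).symm)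
    refine Eq.trans (b := ∑ i, a' i • row i) (Finset.sum_congr rfl fun i _ => ?_) ?_
    · refine Eq.trans ?_ ((app_eq_smul_val1 (T := top W) (hom1 Over.mkIdTerminal L (row i)) (a' i)).trans
        (congrArg (a' i • ·) (val1_hom1 _ L (row i))))
      refine congrArg ((hom1 Over.mkIdTerminal L (row i)).val.app (op (top W))) ?_
      refine Eq.trans ?_ (val1_resMap_unit f' (e r i))
      simp only [e, Φ.map_comp]
      rfl
    · simp only [row, Finset.smul_sum, smul_smul]
      rw [Finset.sum_comm]
      refine Finset.sum_eq_zero fun j _ => ?_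
      rw [← Finset.sum_smul]
      have h := h₂ (er r) j
      simp only [Equiv.symm_apply_apply, ← res_comp] at h
      exact (congrArg (· • _) h).trans (zero_smul _ _)
  let hq := CokernelCofork.mapIsColimit _ P.isColimit Φ
  let a₀ : Φ.obj ((ModSite.restr O Xi).obj F) ⟶ L := hq.desc (CokernelCofork.ofπ α hkα)
  have ha₀ : Φ.map π ≫ a₀ = α := hq.fac (CokernelCofork.ofπ α hkα) WalkingParallelPair.one
  let b₀ : L ⟶ Φ.obj ((ModSite.restr O Xi).obj H) :=
    homFree Over.mkIdTerminal _ fun j => (show ModSite.sect H W from t j.down)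
  have hab : a₀ ≫ b₀ = Φ.map φX := by
    refine Cofork.IsColimit.hom_ext hq ?_
    show Φ.map π ≫ a₀ ≫ b₀ = Φ.map π ≫ Φ.map φX
    rw [← Category.assoc, ha₀]
    refine Cofan.IsColimit.hom_ext hc _ _ fun i => ?_
    show Φ.map (SheafOfModules.ιFree i) ≫ α ≫ b₀ = Φ.map (SheafOfModules.ιFree i) ≫ Φ.map π ≫ Φ.map φX
    rw [← Category.assoc, hα, ← Φ.map_comp, ← Φ.map_comp]
    refine hom_ext_resMap f' ?_
    refine Eq.trans ?_ (((val1_resMap f' (SheafOfModules.ιFree i ≫ π ≫ φX)).trans
      ((rs_comp H f w (y i)).trans (h₁ i))).symm)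
    refine (congrArg (b₀.val.app (op (top W))) (val1_hom1 _ L (row i))).trans ?_
    refine (map_sum (b₀.val.app (op (top W))).hom _ _).trans (Finset.sum_congr rfl fun j _ => ?_)
    refine ((b₀.val.app (op (top W))).hom.map_smul _ _).trans (congrArg _ ?_)
    rw [← val1_comp, ιFree_homFree, val1_hom1]
  let ι := SheafOfModules.overFunctorMap (ModSite.ringSh O) f'
  refine ⟨l, ι.inv.app F ≫ a₀, b₀ ≫ ι.hom.app H, ?_⟩
  rw [Category.assoc, ← Category.assoc a₀, hab]
  exact (congrArg (ι.inv.app F ≫ ·) (ι.hom.naturality φ)).trans (Iso.inv_hom_id_app_assoc ι F _)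

end Groth.Agent.FlatRel
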