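import Groth.Agent.FlatRel.Pull
import Mathlib.CategoryTheory.Sites.LocallySurjective

/-! # Inverse image of a short exact sequence with flat quotient -/

universe u

open CategoryTheory Limits Opposite

namespace Groth.Agent.FlatRel

open Groth.Agent.SiteBase

section

variable {C : Type u} [SmallCategory C] {J : GrothendieckTopology C} {O : Sheaf J CommRingCat.{u}}

lemma rs_app {A B : ModSite.Mod O} (φ : A ⟶ B) {U V : C} (g : V ⟶ U) (x : ModSite.sect A U) :
    φ.val.app (op V) (rs A g x) = rs B g (φ.val.app (op U) x) :=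
  PresheafOfModules.naturality_apply φ.val g.op x

theorem locally_lift {A B : ModSite.Mod O} (φ : A ⟶ B) [Epi φ] {U : C} (y : ModSite.sect B U) :
    Locally J U fun V g => ∃ x : ModSite.sect A V, φ.val.app (op V) x = rs B g y := by
  haveI : Epi ((SheafOfModules.toSheaf (ModSite.ringSh O)).map φ) :=
    haveI : PreservesColimitsOfShape WalkingSpan (SheafOfModules.toSheaf (ModSite.ringSh O)) :=
      (preservesColimitsOfSize_shrink.{0, u, 0, u} (SheafOfModules.toSheaf (ModSite.ringSh O))).preservesColimitsOfShape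
    Functor.map_epi _ _
  haveI : Sheaf.IsLocallySurjective ((SheafOfModules.toSheaf (ModSite.ringSh O)).map φ) :=
    (Sheaf.isLocallySurjective_iff_epi' (A := AddCommGrpCat.{u}) _).2 inferInstance
  let y' : ((SheafOfModules.toSheaf (ModSite.ringSh O)).obj B).obj.obj (op U) := y
  exact ⟨Presheaf.imageSieve ((SheafOfModules.toSheaf (ModSite.ringSh O)).map φ).hom y',
    Presheaf.imageSieve_mem J ((SheafOfModules.toSheaf (ModSite.ringSh O)).map φ).hom y', fun V g hg => hg⟩

theorem exists_preimage {S : ShortComplex (ModSite.Mod O)} (hS : S.ShortExact) {U : C}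
    (x : ModSite.sect S.X₂ U) (hx : S.g.val.app (op U) x = 0) :
    ∃ a : ModSite.sect S.X₁ U, S.f.val.app (op U) a = x := by
  let R := SheafOfModules.evaluation (ModSite.ringSh O) (op U)
  have := hS.mono_f
  have : PreservesFiniteLimits R :=
    inferInstanceAs (PreservesFiniteLimits (SheafOfModules.evaluation (ModSite.ringSh O) (op U)))
  have : R.PreservesZeroMorphisms := Functor.preservesZeroMorphisms_of_preserves_terminal_object
  have hex : (S.map R).Exact :=
    ShortComplex.exact_of_f_is_kernel _ (KernelFork.mapIsLimit _ hS.fIsKernel R)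
  exact (ShortComplex.moduleCat_exact_iff _).1 hex x hx

theorem apply_comp_zero {S : ShortComplex (ModSite.Mod O)} {U : C} (a : ModSite.sect S.X₁ U) :
    S.g.val.app (op U) (S.f.val.app (op U) a) = 0 :=
  ConcreteCategory.congr_hom (congrArg (fun q : S.X₁ ⟶ S.X₃ => q.val.app (op U)) S.zero) a

end

variable {C D : Type u} [SmallCategory C] [SmallCategory D] {J : GrothendieckTopology C}
  {K : GrothendieckTopology D} {O_C : Sheaf J CommRingCat.{u}} {O_D : Sheaf K CommRingCat.{u}}
  (f : ModSite.RMor O_C O_D)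

lemma pull_map_pullSec {A B : ModSite.Mod O_D} (φ : A ⟶ B) {V : D} (m : ModSite.sect A V) :
    (f.pull.map φ).val.app (op (f.fn.obj V)) (pullSec f A m) = pullSec f B (φ.val.app (op V) m) :=
  (ConcreteCategory.congr_hom (congrArg (fun q : A ⟶ f.push.obj (f.pull.obj B) => q.val.app (op V))
    (f.adj.unit.naturality φ)) m).symm

lemma pullSec_zero (M : ModSite.Mod O_D) {V : D} : pullSec f M (0 : ModSite.sect M V) = 0 :=
  map_zero ((f.adj.unit.app M).val.app (op V)).hom

/-- the inverse image of a monomorphism with flat cokernel is a monomorphism -/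
theorem mono_pull_map {S : ShortComplex (ModSite.Mod O_D)} (hS : S.ShortExact)
    (hH : ModSite.IsFlat S.X₃) : Mono (f.pull.map S.f) := by
  classical
  have := hS.epi_g
  have := hS.mono_f
  refine mono_of_injective _ fun U x hx => ?_
  refine eq_of_locally (f.pull.obj S.X₁).isSheaf ?_
  refine Locally.mono (P := fun _ g => rs (f.pull.obj S.X₁) g x = 0) ?_
    fun V g h => h.trans (map_zero _).symm
  refine (locally_ev f S.X₁ x).bind fun W w hw => ?_
  obtain ⟨v, hv⟩ := hw
  let T := v.support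
  have hv' : rs (f.pull.obj S.X₁) w x =
      ∑ t : T, v t.1 • rs (f.pull.obj S.X₁) t.1.2.1 (pullSec f S.X₁ t.1.2.2) := by
    rw [hv, Finset.sum_coe_sort T (fun t => v t • rs (f.pull.obj S.X₁) t.2.1 (pullSec f S.X₁ t.2.2))]
    exact Finsupp.linearCombination_apply (R := O_C.obj.obj (op W)) v
  have hrel : ∑ t : T, v t.1 • rs (f.pull.obj S.X₂) t.1.2.1
      (pullSec f S.X₂ (S.f.val.app (op t.1.1) t.1.2.2)) = 0 := by
    have h0 := congrArg (rs (f.pull.obj S.X₂) w) hx
    rw [map_zero, ← rs_app, hv', map_sum] at h0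
    refine Eq.trans (Finset.sum_congr rfl fun t _ => ?_) h0
    refine Eq.symm ((((f.pull.map S.f).val.app (op W)).hom.map_smul _ _).trans ?_)
    refine congrArg (fun q => v t.1 • q) ?_
    rw [← pull_map_pullSec]
    exact rs_app _ _ _
  have hstage := exists_stage f S.X₂ (fun t : T => t.1.1) (fun t => t.1.2.1) (fun t => v t.1)
    (fun t => S.f.val.app (op t.1.1) t.1.2.2) hrel
  refine hstage.bind fun W' w' hw' => ?_
  obtain ⟨V₀, cc, h, p, q, e, hcc, hq, heq⟩ := hw'
  let y₁ : T → ModSite.sect S.X₂ V₀ := fun t => rs S.X₂ (h t) (S.f.val.app (op t.1.1) t.1.2.2)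
  let Y : Finset (ModSite.sect S.X₂ V₀) := Finset.univ.image y₁ ∪ Finset.univ.biUnion fun r => (q r).support
  have hY : ∀ t, y₁ t ∈ Y := fun t => Finset.mem_union_left _ (Finset.mem_image_of_mem _ (Finset.mem_univ t))
  have hy₁ : ∀ t, S.g.val.app (op V₀) (y₁ t) = 0 := fun t => by
    show S.g.val.app (op V₀) (rs S.X₂ (h t) _) = 0
    rw [rs_app, apply_comp_zero, map_zero]
  have hqY : ∀ r, ∑ y : Y, q r y.1 • y.1 = 0 := fun r => by
    rw [Finset.sum_coe_sort Y (fun y => q r y • y), ← hq r]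
    exact ((Finsupp.linearCombination_apply (R := O_D.obj.obj (op V₀)) (v := id) (q r)).trans
      (Finsupp.sum_of_support_subset _ (fun y hy => Finset.mem_union_right _
        (Finset.mem_biUnion.2 ⟨r, Finset.mem_univ _, hy⟩)) _ (fun _ _ => zero_smul _ _))).symm
  let eT := (Fintype.equivFin (Fin p ⊕ T)).symm
  let a : Fin p ⊕ T → Y → O_D.obj.obj (op V₀) :=
    Sum.elim (fun r y => q r y.1) (fun t y => if y = ⟨_, hY t⟩ then 1 else 0)
  have ha : ∀ i, ∑ y : Y, a i y • S.g.val.app (op V₀) y.1 = 0 := by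
    rintro (r | t)
    · refine Eq.trans ?_ ((congrArg (S.g.val.app (op V₀)) (hqY r)).trans (map_zero _))
      rw [map_sum]
      exact Finset.sum_congr rfl fun y _ => ((S.g.val.app (op V₀)).hom.map_smul _ _).symm
    · simp only [a, Sum.elim_inr, ite_smul, one_smul, zero_smul, Finset.sum_ite_eq', Finset.mem_univ, if_true]
      exact hy₁ t
  obtain ⟨S₁, hS₁, hS₁'⟩ := ((relTrivial_of_isFlat hH).simultaneous
    (fun y : Y => S.g.val.app (op V₀) y.1) (fun i => a (eT i)) fun i => ha _)
  refine (locally_cover f cc hS₁).bind fun Z z hz => ?_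
  obtain ⟨V₁, g₁, c₁, hg₁, hc₁⟩ := hz
  obtain ⟨l, t', B, h₁, h₂⟩ := hS₁' g₁ hg₁
  obtain ⟨S₂, hS₂, hS₂'⟩ := Locally.forall_fin _ fun k => locally_lift S.g (t' k)
  refine (locally_cover f c₁ hS₂).mono fun Z' z' hz' => ?_
  obtain ⟨V₂, g₂, c₂, hg₂, hc₂⟩ := hz'
  choose t ht using hS₂' g₂ hg₂
  let G := g₂ ≫ g₁
  let B' : Y → Fin l → O_D.obj.obj (op V₂) := fun y k => (O_D.obj.map g₂.op).hom (B y k)
  have hd : ∀ y : Y, ∃ b : ModSite.sect S.X₁ V₂,
      S.f.val.app (op V₂) b = rs S.X₂ G y.1 - ∑ k, B' y k • t k := fun y => by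
    refine exists_preimage hS _ ?_
    rw [map_sub, map_sum, sub_eq_zero, rs_app, rs_comp, h₁ y, map_sum]
    exact Finset.sum_congr rfl fun k _ =>
      (rs_smul S.X₃ g₂ (B y k) (t' k)).trans (((congrArg (fun q => B' y k • q) (ht k).symm)).trans
        ((S.g.val.app (op V₂)).hom.map_smul _ _).symm)
  choose b hb using hd
  have hrow : ∀ i k, ∑ y : Y, (O_D.obj.map G.op).hom (a i y) * B' y k = 0 := fun i k => by
    have := congrArg (O_D.obj.map g₂.op).hom (h₂ (eT.symm i) k)
    rw [map_sum, map_zero] at this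
    simp only [Equiv.apply_symm_apply, map_mul, ← res_comp] at this
    exact this
  have hinj : Function.Injective (S.f.val.app (op V₂)) := injective_of_mono S.f V₂
  have hb₁ : ∀ t₁, b ⟨_, hY t₁⟩ = rs S.X₁ (G ≫ h t₁) t₁.1.2.2 := fun t₁ => by
    refine hinj ((hb _).trans ?_)
    have hz0 : ∀ k, B' ⟨_, hY t₁⟩ k = 0 := fun k => by
      have := hrow (Sum.inr t₁) k
      simpa [a, apply_ite] using this
    simp only [hz0, zero_smul, Finset.sum_const_zero, sub_zero]
    show rs S.X₂ G (rs S.X₂ (h t₁) _) = _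
    rw [rs_app, rs_comp S.X₂ (h t₁) G]
  have hbr : ∀ r, ∑ y : Y, (O_D.obj.map G.op).hom (q r y.1) • b y = 0 := fun r => by
    refine hinj ?_
    rw [map_sum, map_zero]
    refine Eq.trans (Finset.sum_congr rfl fun y _ => ((S.f.val.app (op V₂)).hom.map_smul _ _)) ?_
    refine Eq.trans (Finset.sum_congr rfl fun y _ => congrArg (fun x => (O_D.obj.map G.op).hom (q r y.1) • x) (hb y)) ?_
    simp only [smul_sub, Finset.smul_sum, smul_smul, Finset.sum_sub_distrib]
    rw [sub_eq_zero]
    refine Eq.trans (b := (0 : ModSite.sect S.X₂ V₂)) ?_ (Eq.trans ?_ Finset.sum_comm)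
    · have := congrArg (rs S.X₂ G) (hqY r)
      rw [map_sum, map_zero] at this
      refine Eq.trans (Finset.sum_congr rfl fun y _ => ?_) this
      exact (rs_smul S.X₂ G (q r y.1) y.1).symm
    · refine (Finset.sum_eq_zero fun k _ => ?_).symm
      rw [← Finset.sum_smul]
      exact (congrArg (fun x => x • t k) (hrow (Sum.inl r) k)).trans (zero_smul _ _)
  -- evaluate the stage equation against `b`
  show rs _ (((z' ≫ z) ≫ w') ≫ w) x = 0
  rw [rs_comp, hv', map_sum]
  let Θ : (ModSite.sect S.X₂ V₀ →₀ O_C.obj.obj (op W')) →+ ModSite.sect (f.pull.obj S.X₁) Z' :=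
    AddMonoidHom.mk' (fun u => ∑ y : Y, (O_C.obj.map (z' ≫ z).op).hom (u y.1) •
        rs (f.pull.obj S.X₁) c₂ (pullSec f S.X₁ (b y)))
      (fun u u' => by simp only [Finsupp.add_apply, map_add, add_smul, Finset.sum_add_distrib])
  have key := congrArg Θ heq
  rw [map_sum, map_sum] at key
  refine Eq.trans ?_ (key.trans (Finset.sum_eq_zero fun r _ => ?_))
  · refine Finset.sum_congr rfl fun t₁ _ => ?_
    show _ = ∑ y : Y, (O_C.obj.map (z' ≫ z).op).hom (Finsupp.single (y₁ t₁) _ y.1) • _
    rw [Finset.sum_eq_single ⟨_, hY t₁⟩, Finsupp.single_eq_same, hb₁, rs_smul]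
    · refine congrArg₂ (fun (r : O_C.obj.obj (op Z')) (m : ModSite.sect (f.pull.obj S.X₁) Z') => r • m) ?_ ?_
      · exact res_comp w' (z' ≫ z) _
      · rw [← pullSec_map, ← rs_comp, ← rs_comp]
        refine congrArg (fun k => rs (f.pull.obj S.X₁) k (pullSec f S.X₁ t₁.1.2.2)) ?_
        simp only [G, f.fn.map_comp, reassoc_of% hc₂, reassoc_of% hc₁, hcc, Category.assoc]
    · intro y _ hy
      simp [Finsupp.single_eq_of_ne (fun e => hy (Subtype.ext e))]
    · simp
  · show ∑ y : Y, (O_C.obj.map (z' ≫ z).op).hom (e r * stageHom f cc (q r y.1)) •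
      rs (f.pull.obj S.X₁) c₂ (pullSec f S.X₁ (b y)) = 0
    have h0 := congrArg (fun u => (O_C.obj.map (z' ≫ z).op).hom (e r) • rs (f.pull.obj S.X₁) c₂ u)
      ((congrArg (pullSec f S.X₁) (hbr r)).trans (pullSec_zero f S.X₁))
    simp only [map_zero, smul_zero] at h0
    refine Eq.trans ?_ h0
    refine Eq.trans ?_ (congrArg (fun u => (O_C.obj.map (z' ≫ z).op).hom (e r) • rs (f.pull.obj S.X₁) c₂ u)
      (map_sum ((f.adj.unit.app S.X₁).val.app (op V₂)).hom _ _).symm)
    refine Eq.trans ?_ (congrArg (fun u => (O_C.obj.map (z' ≫ z).op).hom (e r) • u)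
      (map_sum (rs (f.pull.obj S.X₁) c₂) _ _)).symm
    refine Eq.trans ?_ Finset.smul_sum.symm
    refine Finset.sum_congr rfl fun y _ => ?_
    refine Eq.trans ?_ (congrArg (fun u => (O_C.obj.map (z' ≫ z).op).hom (e r) • rs (f.pull.obj S.X₁) c₂ u)
      (pullSec_smul f S.X₁ ((O_D.obj.map G.op).hom (q r y.1)) (b y))).symm
    rw [rs_smul, ← stageHom_comp, Category.comp_id, smul_smul, map_mul, ← stageHom_comp]
    refine congrArg (fun s => ((O_C.obj.map (z' ≫ z).op).hom (e r) * s) • _) ?_
    rw [← stageHom_map]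
    refine congrArg (fun k => stageHom f k (q r y.1)) ?_
    simp only [G, f.fn.map_comp, reassoc_of% hc₂, hc₁, Category.assoc]

/-- the inverse image of a short exact sequence with flat quotient is short exact -/
theorem shortExact_pull {S : ShortComplex (ModSite.Mod O_D)} (hS : S.ShortExact)
    (hH : ModSite.IsFlat S.X₃) : (S.map f.pull).ShortExact := by
  haveI : f.pull.IsLeftAdjoint := ⟨_, ⟨f.adj⟩⟩
  have : HasFiniteBiproducts (ModSite.Mod O_D) := Abelian.hasFiniteBiproducts
  have : HasFiniteBiproducts (ModSite.Mod O_C) := Abelian.hasFiniteBiproducts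
  haveI : f.pull.Additive := f.adj.left_adjoint_additive
  haveI : PreservesFiniteColimits f.pull := PreservesColimitsOfSize.preservesFiniteColimits.{u, u} f.pull
  obtain ⟨h₁, h₂⟩ := exact_epi_map f.pull hS
  exact { exact := h₁, mono_f := mono_pull_map f hS hH, epi_g := h₂ }

end Groth.Agent.FlatRel
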