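import Groth.Agent.FlatRel.PullExact
import Groth.Agent.SiteBase.KFlat.Cycles
import Groth.Agent.CoverSys.System
import Groth.Agent.GrothSS.Acyclic
import Mathlib.CategoryTheory.Limits.Constructions.EventuallyConstant

/-! # Inverse image of K-flat complexes with flat terms -/

universe u

open CategoryTheory Limits HomologicalComplex Opposite

attribute [local instance] IsFiltered.isConnected

namespace Groth.Agent.FlatRel

open Groth.Agent.SiteBase Groth.Agent.SiteBase.KFlat

section
variable {A : Type*} [Category* A] [Abelian A] (K : CochainComplex A ℤ)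

/-- the canonical truncation agrees with the complex below the bound -/
lemma isIso_ιTruncLE_f (n i : ℤ) (hi : i < n) : IsIso ((K.ιTruncLE n).f i) := by
  let e := ComplexShape.embeddingUpIntLE n
  have hk : e.f (n - i).natAbs = i := by
    show n - ((n - i).natAbs : ℤ) = i
    omega
  have hb : ¬ e.BoundaryLE (n - i).natAbs := fun h => by
    rw [ComplexShape.boundaryLE_embeddingUpIntLE_iff, Int.natAbs_eq_zero] at h
    omega
  show IsIso ((K.op.πTruncGE e.op).f i).unop
  have : IsIso ((K.op.πTruncGE e.op).f i) := by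
    exact (e.op.isIso_liftExtend_f_iff _ (K.op.restrictionToTruncGE'_hasLift e.op) hk).2
      (K.op.isIso_restrictionToTruncGE' e.op _ (by simpa))
  infer_instance

/-- the transition maps between truncations -/
noncomputable def truncStep (n m : ℤ) (h : n ≤ m) : K.truncLE n ⟶ K.truncLE m :=
  haveI : IsIso ((K.truncLE n).ιTruncLE m) :=
    haveI : (K.truncLE n).IsStrictlyLE n :=
      inferInstanceAs ((HomologicalComplex.truncLE K (ComplexShape.embeddingUpIntLE n)).IsStrictlySupported _)
    haveI : (K.truncLE n).IsStrictlyLE m := (K.truncLE n).isStrictlyLE_of_le n m h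
    inferInstanceAs (IsIso (HomologicalComplex.ιTruncLE (K.truncLE n) (ComplexShape.embeddingUpIntLE m)))
  inv ((K.truncLE n).ιTruncLE m) ≫ CochainComplex.truncLEMap (K.ιTruncLE n) m

lemma truncStep_ι (n m : ℤ) (h : n ≤ m) : truncStep K n m h ≫ K.ιTruncLE m = K.ιTruncLE n := by
  simp [truncStep]

/-- the short complex of cycles -/
noncomputable abbrev cyclesSeq (n m : ℤ) (h : n + 1 = m) : ShortComplex A :=
  ShortComplex.mk (K.iCycles n) (K.toCycles n m) (by
    rw [← cancel_mono (K.iCycles m), Category.assoc, toCycles_i, zero_comp]; exact K.iCycles_d _ _)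

lemma shortExact_cycles {K : CochainComplex A ℤ} (hac : K.Acyclic) (n m : ℤ) (h : n + 1 = m) :
    (cyclesSeq K n m h).ShortExact := by
  refine { exact := ?_, epi_g := ?_ }
  · exact ShortComplex.exact_of_f_is_kernel _ (KernelFork.IsLimit.ofι' _ _ fun {W} k hk =>
      ⟨K.liftCycles k m (by simp [h]) (by rw [← K.toCycles_i n m, reassoc_of% hk, zero_comp]),
        K.liftCycles_i _ _ _ _⟩)
  · show Epi (K.toCycles n m)
    rw [epi_iff_surjective_up_to_refinements]
    intro X z
    obtain ⟨X', π, hπ, x, hx⟩ := ((K.exactAt_iff' n m (m + 1) (by simp; omega) (by simp)).1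
      (hac m)).exact_up_to_refinements (z ≫ K.iCycles m)
        (show (z ≫ K.iCycles m) ≫ K.d m (m + 1) = 0 by rw [Category.assoc, K.iCycles_d, comp_zero])
    refine ⟨X', π, hπ, x, ?_⟩
    rw [← cancel_mono (K.iCycles m)]
    simpa using! hx

end

variable {C : Type u} [SmallCategory C] {J : GrothendieckTopology C} {O : Sheaf J CommRingCat.{u}}

/-- A complex with flat terms and flat cycles is K-flat. -/
theorem isKFlat_of_flat_cycles {K : Cx O} (hX : ∀ n, ModSite.IsFlat (K.X n))
    (hZ : ∀ n, ModSite.IsFlat (K.cycles n)) : ModSite.IsKFlat K := by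
  have hmono : ∀ n : ℤ, Mono (K.ιTruncLE n) := fun n =>
    inferInstanceAs (Mono (HomologicalComplex.ιTruncLE K (ComplexShape.embeddingUpIntLE n)))
  let D : ℕ ⥤ Cx O :=
    { obj := fun j => K.truncLE (j : ℤ)
      map := fun {i j} h => truncStep K _ _ (by have := leOfHom h; omega)
      map_id := fun i => by
        haveI := hmono (i : ℤ)
        rw [← cancel_mono (K.ιTruncLE (i : ℤ)), truncStep_ι, Category.id_comp]
      map_comp := fun {i j k} h h' => by
        haveI := hmono (k : ℤ)
        rw [← cancel_mono (K.ιTruncLE (k : ℤ)), Category.assoc, truncStep_ι, truncStep_ι, truncStep_ι] }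
  let c : Cocone D :=
    { pt := K
      ι :=
        { app := fun j => K.ιTruncLE (j : ℤ)
          naturality := fun i j h =>
            (truncStep_ι K (i : ℤ) (j : ℤ) (by have := leOfHom h; omega)).trans (Category.comp_id _).symm } }
  have hflat : ∀ n q : ℤ, ModSite.IsFlat ((K.truncLE n).X q) := by
    intro n q
    rcases lt_trichotomy q n with h | h | h
    · exact isFlat_of_iso (K.truncLEXIso n q h).symm (hX q)
    · subst h
      exact isFlat_of_iso (K.truncLEXIsoCycles q).symm (hZ q)
    · exact isFlat_of_isZero ((K.truncLE n).isZero_of_isStrictlyLE n q h)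
  have hD : ∀ j, ModSite.IsKFlat (D.obj j) := fun j =>
    isKFlat_of_bddAbove (fun q => hflat _ q) (j : ℤ) fun q hq =>
      (K.truncLE (j : ℤ)).isZero_of_isStrictlyLE (j : ℤ) q hq
  refine isKFlat_colimit (I := ℕ) D hD (c := c) (HomologicalComplex.isColimitOfEval D c fun q => ?_)
  have hi : ∀ j, q.toNat + 1 ≤ j → IsIso ((K.ιTruncLE ((j : ℕ) : ℤ)).f q) := fun j hj =>
    isIso_ιTruncLE_f K _ q (by omega)
  have hev : (D ⋙ eval _ _ q).IsEventuallyConstantFrom (q.toNat + 1) := fun j h => by
    have w : ((D ⋙ eval _ _ q).map h) ≫ (K.ιTruncLE (j : ℤ)).f q =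
        (K.ιTruncLE ((q.toNat + 1 : ℕ) : ℤ)).f q :=
      congrArg (fun φ => HomologicalComplex.Hom.f φ q)
        (truncStep_ι K ((q.toNat + 1 : ℕ) : ℤ) (j : ℤ) (by have := leOfHom h; omega))
    exact @IsIso.of_isIso_fac_right _ _ _ _ _ _ _ _ (hi j (leOfHom h)) (hi _ (le_refl (q.toNat + 1))) w
  haveI : IsIso (((HomologicalComplex.eval _ _ q).mapCocone c).ι.app (q.toNat + 1)) := hi _ (le_refl (q.toNat + 1))
  exact hev.isColimitOfIsIso ((HomologicalComplex.eval _ _ q).mapCocone c)

section
variable {D : Type u} [SmallCategory D] {K' : GrothendieckTopology D} {O_D : Sheaf K' CommRingCat.{u}}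
  (f : ModSite.RMor O O_D)

/-- Inverse image of a complex with flat terms and flat cycles, exact everywhere, is K-flat. -/
theorem isKFlat_pull_of_flat_cycles {K : Cx O_D} (hac : K.Acyclic)
    (hX : ∀ n, ModSite.IsFlat (K.X n)) (hZ : ∀ n, ModSite.IsFlat (K.cycles n)) :
    ModSite.IsKFlat ((f.pull.mapHomologicalComplex (ComplexShape.up ℤ)).obj K) := by
  haveI : f.pull.IsLeftAdjoint := ⟨_, ⟨f.adj⟩⟩
  refine isKFlat_of_flat_cycles (fun n => isFlat_pull f (hX n)) fun n => ?_
  let L := (f.pull.mapHomologicalComplex (ComplexShape.up ℤ)).obj K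
  have hS := shortExact_cycles hac n (n + 1) rfl
  have hT := shortExact_pull f hS (hZ (n + 1))
  haveI : f.pull.Additive := f.adj.left_adjoint_additive
  have hm : Mono (f.pull.map (K.iCycles (n + 1))) :=
    mono_pull_map f (shortExact_cycles hac (n + 1) (n + 2) (by omega)) (hZ (n + 2))
  haveI := hT.mono_f
  have hk : IsLimit (KernelFork.ofι (f.pull.map (K.iCycles n))
      (show f.pull.map (K.iCycles n) ≫ L.d n (n + 1) = 0 by
        show f.pull.map (K.iCycles n) ≫ f.pull.map (K.d n (n + 1)) = 0
        rw [← f.pull.map_comp, K.iCycles_d, f.pull.map_zero])) :=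
    isKernelCompMono hT.fIsKernel (f.pull.map (K.iCycles (n + 1))) (hg := hm)
      (show f.pull.map (K.d n (n + 1)) = f.pull.map (K.toCycles n (n + 1)) ≫ f.pull.map (K.iCycles (n + 1)) by
        rw [← f.pull.map_comp, K.toCycles_i])
  exact isFlat_of_iso (hk.conePointUniqueUpToIso (L.cyclesIsKernel n (n + 1) (by simp)))
    (isFlat_pull f (hZ n))

end

end Groth.Agent.FlatRel
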