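import Groth.Agent.FlatRel.Forward
import Groth.Prelude.Def_ModSite2
import Mathlib.RingTheory.Flat.EquationalCriterion
import Mathlib.CategoryTheory.Sites.Point.Conservative

/-! # Flatness of sheaves of modules and of their stalks -/

universe u

open CategoryTheory Limits Opposite

namespace Groth.Agent.FlatRel

variable {C : Type u} [SmallCategory C] {J : GrothendieckTopology C}

section Near

variable (p : GrothendieckTopology.Point.{u} J)

/-- `P` holds on some refinement of the neighbourhood `(X, x)` of the point -/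
def Near {X : C} (x : p.fiber.obj X) (P : ∀ ⦃Y : C⦄, (Y ⟶ X) → p.fiber.obj Y → Prop) : Prop :=
  ∃ (Y : C) (g : Y ⟶ X) (y : p.fiber.obj Y), p.fiber.map g y = x ∧ P g y

variable {p}

theorem exists_min {X X' : C} (x : p.fiber.obj X) (x' : p.fiber.obj X') :
    ∃ (W : C) (w : p.fiber.obj W) (a : W ⟶ X) (b : W ⟶ X'), p.fiber.map a w = x ∧ p.fiber.map b w = x' := by
  let e := Functor.elementsMk p.fiber X x
  let e' := Functor.elementsMk p.fiber X' x'
  exact ⟨_, (IsCofiltered.min e e').2, (IsCofiltered.minToLeft e e').1, (IsCofiltered.minToRight e e').1,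
    (IsCofiltered.minToLeft e e').2, (IsCofiltered.minToRight e e').2⟩

theorem exists_eq_comp {X Y Z : C} {x : p.fiber.obj X} (g : Y ⟶ X) {y : p.fiber.obj Y} (h : p.fiber.map g y = x)
    (k : Z ⟶ Y) {z : p.fiber.obj Z} (h' : p.fiber.map k z = y) : p.fiber.map (k ≫ g) z = x := by
  rw [← h, ← h', Functor.map_comp]
  rfl

/-- finitely many germs have representatives on a common neighbourhood -/
theorem exists_reps (P : Cᵒᵖ ⥤ AddCommGrpCat.{u}) : ∀ {n : ℕ} (e : Fin n → ((p.presheafFiber (A := AddCommGrpCat.{u})).obj P : AddCommGrpCat.{u})) {X : C}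
    (x : p.fiber.obj X), Near p x fun Y _ y => ∀ i, ∃ s : P.obj (op Y), p.toPresheafFiber Y y P s = e i := by
  intro n
  induction n with
  | zero => exact fun e X x => ⟨X, 𝟙 X, x, by simp, fun i => i.elim0⟩
  | succ n ih =>
    intro e X x
    obtain ⟨Y, g, y, hy, hP⟩ := ih (fun i => e i.castSucc) x
    obtain ⟨Z, z, s, hs⟩ := p.toPresheafFiber_jointly_surjective (P := P) (e (Fin.last n))
    obtain ⟨W, w, a, b, ha, hb⟩ := exists_min y z
    refine ⟨W, a ≫ g, w, exists_eq_comp g hy a ha, fun i => ?_⟩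
    induction i using Fin.lastCases with
    | last => exact ⟨P.map b.op s, by rw [← hs, ← hb]; exact p.toPresheafFiber_w_apply b w P s⟩
    | cast i =>
      obtain ⟨t, ht⟩ := hP i
      exact ⟨P.map a.op t, by rw [← ht, ← ha]; exact p.toPresheafFiber_w_apply a w P t⟩

/-- finitely many germ equalities hold on a common neighbourhood -/
theorem near_forall {X : C} (x : p.fiber.obj X) : ∀ {n : ℕ} (P : Fin n → ∀ ⦃Y : C⦄, (Y ⟶ X) → Prop),
    (∀ i ⦃Y Z : C⦄ (g : Y ⟶ X) (k : Z ⟶ Y), P i g → P i (k ≫ g)) →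
    (∀ i, Near p x fun _ g _ => P i g) → Near p x fun _ g _ => ∀ i, P i g := by
  intro n
  induction n with
  | zero => exact fun P _ _ => ⟨X, 𝟙 X, x, by simp, fun i => i.elim0⟩
  | succ n ih =>
    intro P hs h
    obtain ⟨Y, g, y, hy, hP⟩ := ih (fun i => P i.castSucc) (fun i => hs _) fun i => h _
    obtain ⟨Z, g', z, hz, hP'⟩ := h (Fin.last n)
    obtain ⟨W, w, a, b, ha, hb⟩ := exists_min y z
    -- two maps to `X` are equalised near `w`
    let e := Functor.elementsMk p.fiber W w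
    let e₀ := Functor.elementsMk p.fiber X x
    let α : e ⟶ e₀ := ⟨a ≫ g, exists_eq_comp g hy a ha⟩
    let β : e ⟶ e₀ := ⟨b ≫ g', exists_eq_comp g' hz b hb⟩
    let c := IsCofiltered.eqHom α β
    refine ⟨(IsCofiltered.eq α β).1, c.1 ≫ a ≫ g, (IsCofiltered.eq α β).2, exists_eq_comp _ α.2 c.1 c.2, fun i => ?_⟩
    induction i using Fin.lastCases with
    | last =>
      rw [show c.1 ≫ a ≫ g = (c.1 ≫ b) ≫ g' from
        (congrArg Subtype.val (IsCofiltered.eq_condition α β)).trans (Category.assoc _ _ _).symm]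
      exact hs _ _ _ hP'
    | cast i =>
      rw [← Category.assoc]
      exact hs _ _ _ (hP i)

end Near

variable {O : Sheaf J CommRingCat.{u}} (M : ModSite.Mod O) (p : GrothendieckTopology.Point.{u} J)

lemma germ_w {X Y : C} (g : Y ⟶ X) {x : p.fiber.obj X} {y : p.fiber.obj Y} (h : p.fiber.map g y = x)
    (s : ModSite.sect M X) : ModSite.germ p M Y y (rs M g s) = ModSite.germ p M X x s := by
  subst h
  exact p.toPresheafFiber_w_apply g y (ModSite.toAb M).obj s

lemma germRing_w {X Y : C} (g : Y ⟶ X) {x : p.fiber.obj X} {y : p.fiber.obj Y} (h : p.fiber.map g y = x)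
    (r : O.obj.obj (op X)) : ModSite.germRing p Y y ((O.obj.map g.op).hom r) = ModSite.germRing p X x r := by
  subst h
  exact p.toPresheafFiber_w_apply g y O.obj r

lemma near_germ_eq {X : C} (x : p.fiber.obj X) (a b : ModSite.sect M X)
    (h : ModSite.germ p M X x a = ModSite.germ p M X x b) : Near p x fun _ g _ => rs M g a = rs M g b := by
  obtain ⟨Y, g, y, hy, hg⟩ := (p.toPresheafFiber_eq_iff' (P := (ModSite.toAb M).obj) X x a b).1 h
  exact ⟨Y, g, y, hy, hg⟩

lemma near_germRing_eq {X : C} (x : p.fiber.obj X) (a b : O.obj.obj (op X))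
    (h : ModSite.germRing p X x a = ModSite.germRing p X x b) :
    Near p x fun _ g _ => (O.obj.map g.op).hom a = (O.obj.map g.op).hom b := by
  obtain ⟨Y, g, y, hy, hg⟩ := (p.toPresheafFiber_eq_iff' (P := O.obj) X x a b).1 h
  exact ⟨Y, g, y, hy, hg⟩

/-- finitely many ring germs have representatives on a common neighbourhood -/
theorem exists_ring_reps {n : ℕ} (e : Fin n → ModSite.stalkRing p O) {X : C} (x : p.fiber.obj X) :
    Near p x fun Y _ y => ∀ i, ∃ r : O.obj.obj (op Y), ModSite.germRing p Y y r = e i := by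
  revert X
  induction n with
  | zero => exact fun {X} x => ⟨X, 𝟙 X, x, by simp, fun i => i.elim0⟩
  | succ n ih =>
    intro X x
    obtain ⟨Y, g, y, hy, hP⟩ := ih (fun i => e i.castSucc) x
    obtain ⟨Z, z, s, hs⟩ := p.toPresheafFiber_jointly_surjective (P := O.obj) (e (Fin.last n))
    obtain ⟨W, w, a, b, ha, hb⟩ := exists_min y z
    refine ⟨W, a ≫ g, w, exists_eq_comp g hy a ha, fun i => ?_⟩
    induction i using Fin.lastCases with
    | last => exact ⟨(O.obj.map b.op).hom s, (germRing_w p b hb s).trans hs⟩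
    | cast i =>
      obtain ⟨t, ht⟩ := hP i
      exact ⟨(O.obj.map a.op).hom t, (germRing_w p a ha t).trans ht⟩

lemma germ_sum_smul {X : C} (x : p.fiber.obj X) {ι : Type*} (s : Finset ι) (r : ι → O.obj.obj (op X))
    (v : ι → ModSite.sect M X) :
    ModSite.germ p M X x (∑ i ∈ s, r i • v i) = ∑ i ∈ s, ModSite.germRing p X x (r i) • ModSite.germ p M X x (v i) :=
  (map_sum (p.toPresheafFiber X x (ModSite.toAb M).obj).hom _ s).trans
    (Finset.sum_congr rfl fun i _ => ModSite.germ_smul p M X x (r i) (v i))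

/-- The stalks of a flat module are flat. -/
theorem flat_stalk_of_relTrivial (hM : RelTrivial M) :
    Module.Flat (ModSite.stalkRing p O) (ModSite.stalkMod p M) := by
  classical
  refine Module.Flat.of_forall_isTrivialRelation fun {l} f m h => ?_
  obtain ⟨X₀, x₀⟩ := (IsCofiltered.nonempty (C := p.fiber.Elements)).some
  obtain ⟨X₁, g₁, x₁, -, hf⟩ := exists_ring_reps p f x₀
  choose r hr using hf
  obtain ⟨X₂, g₂, x₂, h₂, hm⟩ := exists_reps (ModSite.toAb M).obj m x₁
  choose s₀ hs₀ using hm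
  let s : Fin l → ModSite.sect M X₂ := s₀
  have hs : ∀ i, ModSite.germ p M X₂ x₂ (s i) = m i := hs₀
  have hz : ModSite.germ p M X₂ x₂ (∑ i, (O.obj.map g₂.op).hom (r i) • s i) = ModSite.germ p M X₂ x₂ 0 := by
    rw [germ_sum_smul]
    refine Eq.trans ?_ (h.trans (map_zero _).symm)
    exact Finset.sum_congr rfl fun i _ => by rw [germRing_w p g₂ h₂, hr i]; exact congrArg _ (hs i)
  obtain ⟨X₃, g₃, x₃, h₃, hz₃⟩ := near_germ_eq M p x₂ _ _ hz
  rw [map_zero, map_sum] at hz₃
  simp only [rs_smul] at hz₃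
  obtain ⟨S, hS, hg⟩ := hM X₃ l _ _ hz₃
  obtain ⟨V, v, hv, x₄, h₄⟩ := p.jointly_surjective S hS x₃
  obtain ⟨n, t, a, ha, ha'⟩ := hg v hv
  refine ⟨n, fun i k => ModSite.germRing p V x₄ (a i k), fun k => ModSite.germ p M V x₄ (t k), fun i => ?_, fun k => ?_⟩
  · refine Eq.trans ?_ ((congrArg (ModSite.germ p M V x₄) (ha i)).trans (germ_sum_smul M p x₄ _ _ _))
    exact (((germ_w M p v h₄ _).trans (germ_w M p g₃ h₃ _)).trans (hs i)).symm
  · refine Eq.trans ?_ ((congrArg (p.toPresheafFiber V x₄ O.obj).hom (ha' k)).trans (map_zero _))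
    rw [map_sum]
    refine Finset.sum_congr rfl fun i _ => ?_
    rw [map_mul, mul_comm]
    exact congrArg (_ * ·) ((((germRing_w p v h₄ _).trans (germRing_w p g₃ h₃ _)).trans
      (germRing_w p g₂ h₂ _)).trans (hr i)).symm

/-- A module with flat stalks at a conservative family of points is flat. -/
theorem relTrivial_of_flat_stalks {P : ObjectProperty (GrothendieckTopology.Point.{u} J)}
    (hP : P.IsConservativeFamilyOfPoints)
    (h : ∀ p, P p → Module.Flat (ModSite.stalkRing p O) (ModSite.stalkMod p M)) : RelTrivial M := by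
  classical
  intro U n f s hrel
  let Good : ∀ ⦃V : C⦄, (V ⟶ U) → Prop := fun V g =>
    ∃ (l : ℕ) (t : Fin l → ModSite.sect M V) (a : Fin n → Fin l → O.obj.obj (op V)),
        (∀ j, rs M g (s j) = ∑ k, a j k • t k) ∧
        (∀ k, ∑ j, a j k * (O.obj.map g.op).hom (f j) = 0)
  let S : Sieve U :=
    { arrows := fun V g => Good g
      downward_closed := by
        rintro V W g ⟨l, t, a, h₁, h₂⟩ k
        refine ⟨l, fun i => rs M k (t i), fun j i => (O.obj.map k.op).hom (a j i), fun j => ?_, fun i => ?_⟩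
        · rw [rs_comp, h₁ j, map_sum]
          simp only [rs_smul]
        · simp only [res_comp]
          rw [← map_zero (O.obj.map k.op).hom, ← h₂ i, map_sum]
          simp only [map_mul] }
  refine ⟨S, ?_, fun V g hg => hg⟩
  let ι := Σ V : C, {g : V ⟶ U // S g}
  refine J.superset_covering (S := Sieve.ofArrows (fun i : ι => i.1) fun i => i.2.1) ?_ ?_
  · rw [Sieve.ofArrows, Sieve.generate_le_iff, Presieve.ofArrows_le_iff]
    exact fun i => i.2.2
  rw [hP.jointly_reflect_ofArrows_mem]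
  rintro ⟨q, hq⟩ x
  haveI := h q hq
  have hr : ∑ j, ModSite.germRing q U x (f j) • ModSite.germ q M U x (s j) = 0 := by
    rw [← germ_sum_smul, hrel]
    exact map_zero _
  obtain ⟨l, A, T, hA, hA'⟩ := Module.Flat.isTrivialRelation_of_sum_smul_eq_zero (R := ModSite.stalkRing q O)
    (M := ModSite.stalkMod q M) hr
  obtain ⟨X₁, g₁, x₁, h₁, hT⟩ := exists_reps (ModSite.toAb M).obj T x
  choose t ht using hT
  obtain ⟨X₂, g₂, x₂, h₂, hAr⟩ := exists_ring_reps q (fun i : Fin (n * l) =>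
    A (finProdFinEquiv.symm i).1 (finProdFinEquiv.symm i).2) x₁
  choose a ha using hAr
  let a' : Fin n → Fin l → O.obj.obj (op X₂) := fun j k => a (finProdFinEquiv (j, k))
  have ha' : ∀ j k, ModSite.germRing q X₂ x₂ (a' j k) = A j k := fun j k =>
    (ha _).trans (by simp)
  have hx₂ : q.fiber.map (g₂ ≫ g₁) x₂ = x := exists_eq_comp g₁ h₁ g₂ h₂
  obtain ⟨X₃, g₃, x₃, h₃, hB⟩ := near_forall x₂
    (fun j => fun W g => rs M g (rs M (g₂ ≫ g₁) (s j)) = rs M g (∑ k, a' j k • rs M g₂ (t k)))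
    (fun j Y Z g k e => (rs_comp M g k _).trans ((congrArg (rs M k) e).trans (rs_comp M g k _).symm))
    (fun j => near_germ_eq M q x₂ _ _ (by
      rw [germ_w M q _ hx₂, germ_sum_smul]
      refine (hA j).trans (Finset.sum_congr rfl fun k _ => ?_)
      rw [ha', germ_w M q g₂ h₂]
      exact congrArg _ (ht k).symm))
  obtain ⟨X₄, g₄, x₄, h₄, hC⟩ := near_forall x₃
    (fun k => fun W g => (O.obj.map g.op).hom
      (∑ j, (O.obj.map g₃.op).hom (a' j k) * (O.obj.map (g₃ ≫ g₂ ≫ g₁).op).hom (f j)) = (O.obj.map g.op).hom 0)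
    (fun k Y Z g c e => by rw [res_comp, res_comp, e])
    (fun k => near_germRing_eq q x₃ _ _ (by
      refine (map_sum (q.toPresheafFiber X₃ x₃ O.obj).hom _ _).trans (Eq.trans ?_ (map_zero _).symm)
      refine Eq.trans (Finset.sum_congr rfl fun j _ => ?_) (hA' k)
      refine (map_mul (q.toPresheafFiber X₃ x₃ O.obj).hom _ _).trans ((mul_comm _ _).trans ?_)
      exact congrArg₂ (· * ·) (germRing_w q _ (exists_eq_comp _ hx₂ g₃ h₃) (f j))
        ((germRing_w q g₃ h₃ (a' j k)).trans (ha' j k))))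
  refine ⟨⟨X₄, g₄ ≫ g₃ ≫ g₂ ≫ g₁, ?_⟩, x₄, exists_eq_comp _ (exists_eq_comp _ hx₂ g₃ h₃) g₄ h₄⟩
  refine ⟨l, fun k => rs M (g₄ ≫ g₃ ≫ g₂) (t k), fun j k => (O.obj.map (g₄ ≫ g₃).op).hom (a' j k), fun j => ?_, fun k => ?_⟩
  · rw [rs_comp M (g₃ ≫ g₂ ≫ g₁) g₄, rs_comp M (g₂ ≫ g₁) g₃, hB j, ← rs_comp, map_sum]
    refine Finset.sum_congr rfl fun k _ => ?_
    rw [rs_smul, ← rs_comp, Category.assoc]
  · refine Eq.trans ?_ ((hC k).trans (map_zero _))
    rw [map_sum]
    refine Finset.sum_congr rfl fun j _ => ?_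
    dsimp only
    rw [map_mul, res_comp g₃ g₄, res_comp (g₃ ≫ g₂ ≫ g₁) g₄]

end Groth.Agent.FlatRel
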