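import Groth.Agent.FlatRel.Trivial
import Groth.Agent.SiteBase.ModColimits
import Mathlib.Algebra.Category.ModuleCat.Sheaf.Free
import Mathlib.Algebra.Category.ModuleCat.Sheaf.Quasicoherent

/-! # Maps out of free modules on a site with a terminal object, and restriction along `C/W ⥤ C/X` -/

universe u

open CategoryTheory Limits Opposite

namespace Groth.Agent.FlatRel

open Groth.Agent.SiteBase

section Terminal

variable {C : Type u} [SmallCategory C] {J : GrothendieckTopology C} {O : Sheaf J CommRingCat.{u}}
  {T : C} (hT : IsTerminal T)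

/-- the value at `1` of the terminal object -/
noncomputable def val1 {M : ModSite.Mod O} (T : C) (f : SheafOfModules.unit (ModSite.ringSh O) ⟶ M) :
    ModSite.sect M T :=
  f.val.app (op T) (1 : (ModSite.ringSh O).obj.obj (op T))

lemma val1_comp {M N : ModSite.Mod O} (f : SheafOfModules.unit (ModSite.ringSh O) ⟶ M) (g : M ⟶ N) :
    val1 T (f ≫ g) = g.val.app (op T) (val1 T f) := rfl

/-- the map out of the unit with given value -/
noncomputable def hom1 (M : ModSite.Mod O) (x : ModSite.sect M T) :
    SheafOfModules.unit (ModSite.ringSh O) ⟶ M :=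
  M.unitHomEquiv.symm (PresheafOfModules.sectionsMk (fun U => rs M (hT.from U.unop) x) fun U V g => by
    show rs M g.unop (rs M (hT.from U.unop) x) = _
    rw [← rs_comp]
    exact congrArg (fun q => rs M q x) (hT.hom_ext _ _))

lemma val1_hom1 (M : ModSite.Mod O) (x : ModSite.sect M T) : val1 T (hom1 hT M x) = x := by
  refine (M.unitHomEquiv_apply_coe (hom1 hT M x) (op T)).symm.trans ?_
  rw [hom1, Equiv.apply_symm_apply]
  show rs M (hT.from T) x = x
  rw [show hT.from T = 𝟙 T from hT.hom_ext _ _, rs_id]

include hT in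
lemma hom_ext1 {M : ModSite.Mod O} {f g : SheafOfModules.unit (ModSite.ringSh O) ⟶ M}
    (h : val1 T f = val1 T g) : f = g := by
  refine M.unitHomEquiv.injective (PresheafOfModules.sections_ext _ _ fun U => ?_)
  rw [← PresheafOfModules.sections_property (M.unitHomEquiv f) (hT.from U.unop).op,
    ← PresheafOfModules.sections_property (M.unitHomEquiv g) (hT.from U.unop).op]
  exact congrArg (M.val.map (hT.from U.unop).op) h

lemma app_eq_smul_val1 {M : ModSite.Mod O} (f : SheafOfModules.unit (ModSite.ringSh O) ⟶ M)
    (r : O.obj.obj (op T)) : f.val.app (op T) r = r • val1 T f := by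
  let r' : (ModSite.ringSh O).obj.obj (op T) := r
  refine Eq.trans ?_ ((f.val.app (op T)).hom.map_smul r' (1 : (ModSite.ringSh O).obj.obj (op T)))
  exact congrArg (f.val.app (op T)) (mul_one r').symm

variable {I : Type u}

include hT in
lemma free_hom_ext1 {M : ModSite.Mod O} {f g : SheafOfModules.free (R := ModSite.ringSh O) I ⟶ M}
    (h : ∀ i, val1 T (SheafOfModules.ιFree i ≫ f) = val1 T (SheafOfModules.ιFree i ≫ g)) : f = g :=
  Cofan.IsColimit.hom_ext (SheafOfModules.isColimitFreeCofan I) _ _ fun i => hom_ext1 hT (h i)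

/-- the map out of a free module with given values -/
noncomputable def homFree (M : ModSite.Mod O) (x : I → ModSite.sect M T) :
    SheafOfModules.free (R := ModSite.ringSh O) I ⟶ M :=
  Cofan.IsColimit.desc (SheafOfModules.isColimitFreeCofan I) fun i => hom1 hT M (x i)

lemma ιFree_homFree (M : ModSite.Mod O) (x : I → ModSite.sect M T) (i : I) :
    SheafOfModules.ιFree i ≫ homFree hT M x = hom1 hT M (x i) :=
  Cofan.IsColimit.fac (SheafOfModules.isColimitFreeCofan I) (fun i => hom1 hT M (x i)) i

/-- the coordinates -/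
noncomputable def proj (O : Sheaf J CommRingCat.{u}) [DecidableEq I] (i : I) :
    SheafOfModules.free (R := ModSite.ringSh O) I ⟶ SheafOfModules.unit (ModSite.ringSh O) :=
  Cofan.IsColimit.desc (SheafOfModules.isColimitFreeCofan I) fun j => if j = i then 𝟙 _ else 0

lemma ιFree_proj (O : Sheaf J CommRingCat.{u}) [DecidableEq I] (i j : I) :
    SheafOfModules.ιFree (R := ModSite.ringSh O) j ≫ proj O i = if j = i then 𝟙 _ else 0 :=
  Cofan.IsColimit.fac (SheafOfModules.isColimitFreeCofan I) _ j

lemma sum_proj (O : Sheaf J CommRingCat.{u}) [Fintype I] [DecidableEq I] :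
    ∑ i : I, proj O i ≫ SheafOfModules.ιFree i = 𝟙 (SheafOfModules.free (R := ModSite.ringSh O) I) := by
  refine Cofan.IsColimit.hom_ext (SheafOfModules.isColimitFreeCofan I) _ _ fun j => ?_
  show SheafOfModules.ιFree j ≫ (∑ i : I, proj O i ≫ SheafOfModules.ιFree i) = SheafOfModules.ιFree j ≫ 𝟙 _
  rw [Preadditive.comp_sum, Finset.sum_eq_single j]
  · rw [← Category.assoc, ιFree_proj]
    simp
  · intro i _ hi
    rw [← Category.assoc, ιFree_proj, if_neg (Ne.symm hi), zero_comp]
  · simp

/-- elements of a finite free module are combinations of the basis -/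
lemma app_free [Fintype I] [DecidableEq I] {M : ModSite.Mod O}
    (f : SheafOfModules.free (R := ModSite.ringSh O) I ⟶ M)
    (z : ModSite.sect (SheafOfModules.free (R := ModSite.ringSh O) I) T) :
    f.val.app (op T) z =
      ∑ i, (show O.obj.obj (op T) from (proj O i).val.app (op T) z) • val1 T (SheafOfModules.ιFree i ≫ f) := by
  conv_lhs => rw [← Category.id_comp f, ← sum_proj O (I := I), Preadditive.sum_comp]
  let ev : (SheafOfModules.free (R := ModSite.ringSh O) I ⟶ M) →+ ModSite.sect M T :=
    AddMonoidHom.mk' (fun q => q.val.app (op T) z) fun _ _ => rfl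
  refine (map_sum ev _ _).trans (Finset.sum_congr rfl fun i _ => ?_)
  rw [Category.assoc]
  exact app_eq_smul_val1 (SheafOfModules.ιFree i ≫ f) _

end Terminal

section OverMap

variable {C : Type u} [SmallCategory C] {J : GrothendieckTopology C} (O : Sheaf J CommRingCat.{u})
  {W X : C} (f : W ⟶ X)

/-- restriction from `C/X` to `C/W` -/
noncomputable abbrev resMap : ModSite.Mod (O.over X) ⥤ ModSite.Mod (O.over W) :=
  SheafOfModules.overMap (ModSite.ringSh O) f

instance resMap_preservesColimits : PreservesColimitsOfSize.{u, u} (resMap O f) := by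
  let G : SheafOfModules.{u} ((ModSite.ringSh O).over X) ⥤ SheafOfModules.{u} ((ModSite.ringSh O).over W) :=
    SheafOfModules.overMap (ModSite.ringSh O) f
  have hc : G ⋙ SheafOfModules.toSheaf.{u} _ =
      SheafOfModules.toSheaf.{u} _ ⋙ (Over.map f).sheafPushforwardContinuous AddCommGrpCat.{u} (J.over W) (J.over X) :=
    rfl
  haveI := ((Over.map f).sheafAdjunctionCocontinuous AddCommGrpCat.{u} (J.over W) (J.over X)).leftAdjoint_preservesColimits
  have : PreservesColimitsOfSize.{u, u} (G ⋙ SheafOfModules.toSheaf.{u} _) := by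
    rw [hc]; infer_instance
  have : ReflectsColimitsOfSize.{u, u} (SheafOfModules.toSheaf.{u} ((ModSite.ringSh O).over W)) :=
    reflectsColimits_of_reflectsIsomorphisms
  exact preservesColimits_of_reflects_of_preserves G (SheafOfModules.toSheaf.{u} _)

end OverMap

end Groth.Agent.FlatRel
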